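import Groth.Agent.Lib.PullBC11.Conv
import Groth.Agent.Lib.FlatH4.PullChart
import Groth.Agent.Lib.PushFin12.Basic
import Mathlib.Algebra.Category.Ring.Constructions

/-!
Base change for the direct image along an affine morphism.
-/

set_option autoImplicit false
set_option linter.style.haveILetI false

universe u

open CategoryTheory Limits AlgebraicGeometry TopologicalSpace Opposite TensorProduct

namespace Groth.Agent.PullBC11

variable {X S X' S' : Scheme.{u}} {f : X ⟶ S} {g : S' ⟶ S} {g' : X' ⟶ X} {f' : X' ⟶ S'}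

/-- The comparison `f_* F ⟶ g_* f'_* g'^* F`. -/
noncomputable def bcMap (h : IsPullback g' f' f g) (F : X.Modules) :
    (Scheme.Modules.pushforward f).obj F ⟶
      (Scheme.Modules.pushforward g).obj ((Scheme.Modules.pushforward f').obj ((Scheme.Modules.pullback g').obj F)) :=
  (Scheme.Modules.pushforward f).map ((Scheme.Modules.pullbackPushforwardAdjunction g').unit.app F) ≫
    (Scheme.Modules.pushforwardComp g' f).hom.app ((Scheme.Modules.pullback g').obj F) ≫
    (Scheme.Modules.pushforwardCongr h.w).hom.app ((Scheme.Modules.pullback g').obj F) ≫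
    (Scheme.Modules.pushforwardComp f' g).inv.app ((Scheme.Modules.pullback g').obj F)

theorem le_pre (h : IsPullback g' f' f g) {U : S.Opens} {V : S'.Opens} (hle : V ≤ g ⁻¹ᵁ U) :
    f' ⁻¹ᵁ V ≤ g' ⁻¹ᵁ (f ⁻¹ᵁ U) := by
  rw [← Scheme.Hom.comp_preimage, h.w, Scheme.Hom.comp_preimage]
  exact fun x hx => hle hx

theorem sect_bcMap (h : IsPullback g' f' f g) (F : X.Modules) {U : S.Opens} {V : S'.Opens} (hle : V ≤ g ⁻¹ᵁ U)
    (s : Γ(F, f ⁻¹ᵁ U)) :
    M1.mres ((Scheme.Modules.pushforward f').obj ((Scheme.Modules.pullback g').obj F)) hle ((bcMap h F).app U s) =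
      M1.mres ((Scheme.Modules.pullback g').obj F) (le_pre h hle) (M2.pullSec g' F s) := by
  set N := (Scheme.Modules.pullback g').obj F
  show N.presheaf.map ((Opens.map f'.base).map (homOfLE hle)).op
    (((Scheme.Modules.pushforwardComp f' g).inv.app N).app U
      (((Scheme.Modules.pushforwardCongr h.w).hom.app N).app U
        (((Scheme.Modules.pushforwardComp g' f).hom.app N).app U
          (M2.pullSec g' F s)))) = _
  rw [Scheme.Modules.pushforwardComp_inv_app_app, Scheme.Modules.pushforwardCongr_hom_app_app,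
    Scheme.Modules.pushforwardComp_hom_app_app]
  simp only [Category.id_comp]
  exact (ConcreteCategory.congr_hom (N.presheaf.map_comp _ _).symm (M2.pullSec g' F s))

theorem isBC_bcMap (h : IsPullback g' f' f g) [IsAffineHom f] (F : X.Modules) (hF : Coh.IsQCoh F)
    {U : S.Opens} (hU : IsAffineOpen U) {V : S'.Opens} (hV : IsAffineOpen V) (hle : V ≤ g ⁻¹ᵁ U) :
    IsBC (bcMap h F) hle := by
  haveI : IsAffineHom f' := MorphismProperty.of_isPullback h inferInstance
  haveI := hF
  let W := f ⁻¹ᵁ U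
  let W' := f' ⁻¹ᵁ V
  have hW : IsAffineOpen W := hU.preimage f
  have hW' : IsAffineOpen W' := hV.preimage f'
  have e : W' ≤ g' ⁻¹ᵁ W := le_pre h hle
  haveI : IsIso (((Scheme.Modules.pullbackPushforwardAdjunction g').homEquiv F
      ((Scheme.Modules.pullback g').obj F)).symm ((Scheme.Modules.pullbackPushforwardAdjunction g').unit.app F)) := by
    rw [← Adjunction.homEquiv_id, Equiv.symm_apply_apply]
    infer_instance
  have hη := isBC_of_isIso (N := (Scheme.Modules.pullback g').obj F)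
    (show F ⟶ (Scheme.Modules.pushforward g').obj ((Scheme.Modules.pullback g').obj F) from
      (Scheme.Modules.pullbackPushforwardAdjunction g').unit.app F) hF
    (M1.isQCoh_pullback g' hF) hW hW' e
  have hpo := FlatH4.isPushout_sections (g := g') (iY := f') (iX := f) (f := g) h (UT := V) hle
    (le_refl W) (inf_eq_right.2 e).symm hU hV hW
  rw [← Scheme.Hom.app_eq_appLE] at hpo
  rw [show f'.appLE V W' _ = f'.app V from (Scheme.Hom.app_eq_appLE f').symm] at hpo
  -- algebras
  letI a1 : Algebra Γ(S, U) Γ(S', V) := (g.appLE U V hle).hom.toAlgebra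
  letI a2 : Algebra Γ(S, U) Γ(X, W) := (f.app U).hom.toAlgebra
  letI a3 : Algebra Γ(X, W) Γ(X', W') := (g'.appLE W W' e).hom.toAlgebra
  letI a4 : Algebra Γ(S', V) Γ(X', W') := (f'.app V).hom.toAlgebra
  letI a5 : Algebra Γ(S, U) Γ(X', W') :=
    ((algebraMap Γ(X, W) Γ(X', W')).comp (algebraMap Γ(S, U) Γ(X, W))).toAlgebra
  haveI t1 : IsScalarTower Γ(S, U) Γ(X, W) Γ(X', W') := IsScalarTower.of_algebraMap_eq' rfl
  haveI t2 : IsScalarTower Γ(S, U) Γ(S', V) Γ(X', W') := IsScalarTower.of_algebraMap_eq' (by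
    exact congrArg CommRingCat.Hom.hom hpo.w)
  haveI : Algebra.IsPushout Γ(S, U) Γ(X, W) Γ(S', V) Γ(X', W') := CommRingCat.isPushout_iff_isPushout.1 hpo
  haveI : Algebra.IsPushout Γ(S, U) Γ(S', V) Γ(X, W) Γ(X', W') := Algebra.IsPushout.symm inferInstance
  -- modules
  let N := (Scheme.Modules.pullback g').obj F
  letI := baseModule (g := g') N e
  haveI : IsScalarTower Γ(X, W) Γ(X', W') Γ(N, W') := IsScalarTower.of_algebraMap_smul fun _ _ => rfl
  letI mU : Module Γ(S, U) Γ(F, W) := Module.compHom _ (f.app U).hom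
  haveI : IsScalarTower Γ(S, U) Γ(X, W) Γ(F, W) := IsScalarTower.of_algebraMap_smul fun _ _ => rfl
  letI mV : Module Γ(S', V) Γ(N, W') := Module.compHom _ (f'.app V).hom
  haveI : IsScalarTower Γ(S', V) Γ(X', W') Γ(N, W') := IsScalarTower.of_algebraMap_smul fun _ _ => rfl
  letI mUN : Module Γ(S, U) Γ(N, W') := Module.compHom _ (g.appLE U V hle).hom
  let cc := Algebra.IsPushout.cancelBaseChange Γ(S, U) Γ(S', V) Γ(X, W) Γ(X', W') Γ(F, W)
  have key : ∀ s : Γ(F, W), hη.equiv (cc.symm (1 ⊗ₜ s)) = M1.mres N e (M2.pullSec g' F s) := fun s => by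
    rw [Algebra.IsPushout.cancelBaseChange_symm_tmul, map_one]
    exact (hη.equiv_tmul 1 s).trans (one_smul _ _)
  let E : Γ(S', V) ⊗[Γ(S, U)] Γ(F, W) ≃ₗ[Γ(S', V)] Γ(N, W') :=
    (cc.symm.toAddEquiv.trans hη.equiv.toAddEquiv).toLinearEquiv fun c z => by
      show hη.equiv (cc.symm (c • z)) = c • hη.equiv (cc.symm z)
      rw [map_smul, ← algebraMap_smul Γ(X', W') c, map_smul]
      rfl
  have hmU : ∀ (r : Γ(S, U)) (s : Γ(F, W)), r • s = (f.app U r • s : Γ(F, W)) := fun r s => by
    rfl
  have hmV : ∀ (r : Γ(S', V)) (t : Γ(N, W')), r • t = (f'.app V r • t : Γ(N, W')) := fun r t => by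
    rfl
  haveI : IsScalarTower Γ(S, U) Γ(S', V) Γ(N, W') := IsScalarTower.of_algebraMap_smul fun _ _ => rfl
  letI := baseModule (g := g) ((Scheme.Modules.pushforward f').obj N) hle
  let θ' : Γ(F, W) →ₗ[Γ(S, U)] Γ(N, W') :=
    { toFun := fun s => M1.mres ((Scheme.Modules.pushforward f').obj N) hle ((bcMap h F).app U s)
      map_add' := fun a b => (sect (bcMap h F) hle).map_add a b
      map_smul' := fun r a => by
        rw [hmU, RingHom.id_apply]
        exact ((sect (bcMap h F) hle).map_smul r a).trans (hmV (g.appLE U V hle r) _).symm }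
  have hE : IsBaseChange Γ(S', V) θ' := IsBaseChange.of_equiv E fun s =>
    (key s).trans (sect_bcMap h F hle s).symm
  delta IsBC
  exact hE

/-- Affine base change. -/
theorem isIso_bcMap (h : IsPullback g' f' f g) [IsAffineHom f] (F : X.Modules) (hF : Coh.IsQCoh F) :
    IsIso (((Scheme.Modules.pullbackPushforwardAdjunction g).homEquiv _ _).symm (bcMap h F)) := by
  haveI : IsAffineHom f' := MorphismProperty.of_isPullback h inferInstance
  refine isIso_of_isBC _ (PushFin12.isQCoh_pushforward f F hF)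
    (PushFin12.isQCoh_pushforward f' _ (M1.isQCoh_pullback g' hF)) fun y => ?_
  obtain ⟨U, hU, hyU, -⟩ := exists_isAffineOpen_mem_and_subset (X := S) (x := g y) (U := ⊤) trivial
  obtain ⟨V, hV, hyV, hVle⟩ := exists_isAffineOpen_mem_and_subset (X := S') (x := y) (U := g ⁻¹ᵁ U) hyU
  exact ⟨U, hU, V, hV, hVle, hyV, isBC_bcMap h F hF hU hV hVle⟩

end Groth.Agent.PullBC11
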