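import Groth.Agent.Lib.TensorMod.PullStalk
import Groth.Agent.Lib.ModM1.Stalk
import Mathlib.RingTheory.Localization.BaseChange

/-!
When a morphism out of an inverse image of a quasi-coherent module is an isomorphism:
the sections over small affine opens form a base change.
-/

set_option autoImplicit false
set_option linter.style.haveILetI false

universe u

open CategoryTheory Limits AlgebraicGeometry TopologicalSpace Opposite TensorProduct

namespace Groth.Agent.PullBC11

section alg

variable {A B Ax By : Type u} [CommRing A] [CommRing B] [CommRing Ax] [CommRing By]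
  [Algebra A B] [Algebra A Ax] [Algebra B By] [Algebra Ax By] [Algebra A By]
  [IsScalarTower A B By] [IsScalarTower A Ax By]
  {MU NV Mx Ny : Type u} [AddCommGroup MU] [AddCommGroup NV] [AddCommGroup Mx] [AddCommGroup Ny]
  [Module A MU] [Module B NV] [Module A NV] [IsScalarTower A B NV]
  [Module Ax Mx] [Module A Mx] [IsScalarTower A Ax Mx]
  [Module By Ny] [Module B Ny] [Module A Ny] [IsScalarTower B By Ny] [IsScalarTower A By Ny]
  [IsScalarTower A B Ny]

/-- Base changes along the two sides of a square of rings compare bijectively. -/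
theorem bijective_of_isBaseChange {η : MU →ₗ[A] NV} (hη : IsBaseChange B η) {a : MU →ₗ[A] Mx}
    (ha : IsBaseChange Ax a) {b : NV →ₗ[B] Ny} (hb : IsBaseChange By b) (Φ : By ⊗[Ax] Mx →ₗ[By] Ny)
    (hΦ : ∀ m, Φ (1 ⊗ₜ a m) = b (η m)) : Function.Bijective Φ := by
  have d := ha.comp (TensorProduct.isBaseChange Ax Mx By)
  have c := hη.comp hb
  have e : Φ = (d.equiv.symm.trans c.equiv).toLinearMap := d.algHom_ext _ _ fun m => by
    refine (hΦ m).trans ?_
    rw [LinearEquiv.coe_coe, LinearEquiv.trans_apply, d.equiv_symm_apply, c.equiv_tmul, one_smul]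
    rfl
  rw [e]
  exact (d.equiv.symm.trans c.equiv).bijective

end alg

variable {X Y : Scheme.{u}} {g : Y ⟶ X} {M : X.Modules} {N : Y.Modules}
  (θ : M ⟶ (Scheme.Modules.pushforward g).obj N)

/-- The sections of the target as a module over the sections of the base. -/
@[reducible] noncomputable def baseModule (N : Y.Modules) {U : X.Opens} {V : Y.Opens} (hle : V ≤ g ⁻¹ᵁ U) :
    Module Γ(X, U) Γ(N, V) :=
  Module.compHom _ (g.appLE U V hle).hom

/-- `θ` on sections, into a smaller open. -/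
noncomputable def sect {U : X.Opens} {V : Y.Opens} (hle : V ≤ g ⁻¹ᵁ U) :
    letI := baseModule (g := g) N hle
    Γ(M, U) →ₗ[Γ(X, U)] Γ(N, V) :=
  letI := baseModule (g := g) N hle
  { toFun := fun s => M1.mres N hle (θ.app U s)
    map_add' := fun s t => by rw [map_add]; exact map_add _ _ _
    map_smul' := fun r s => by
      rw [Scheme.Modules.Hom.app_smul, RingHom.id_apply]
      exact (N.map_smul (homOfLE hle) ((g.app U).hom r) _).trans rfl }

/-- The sections over `V` are the base change of those over `U`. -/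
def IsBC {U : X.Opens} {V : Y.Opens} (hle : V ≤ g ⁻¹ᵁ U) : Prop :=
  letI := (g.appLE U V hle).hom.toAlgebra
  letI := baseModule (g := g) N hle
  haveI : IsScalarTower Γ(X, U) Γ(Y, V) Γ(N, V) := IsScalarTower.of_algebraMap_smul fun _ _ => rfl
  IsBaseChange Γ(Y, V) (sect θ hle)

/-- A criterion for `IsBC` avoiding tensor products in the first half. -/
theorem isBC_of {U : X.Opens} {V : Y.Opens} (hle : V ≤ g ⁻¹ᵁ U)
    (hgen : ∀ t : Γ(N, V), t ∈ Submodule.span Γ(Y, V) (Set.range fun s : Γ(M, U) => M1.mres N hle (θ.app U s)))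
    (hrel : letI := (g.appLE U V hle).hom.toAlgebra
      letI := baseModule (g := g) N hle
      haveI : IsScalarTower Γ(X, U) Γ(Y, V) Γ(N, V) := IsScalarTower.of_algebraMap_smul fun _ _ => rfl
      ∀ z : Γ(Y, V) ⊗[Γ(X, U)] Γ(M, U), (sect θ hle).liftBaseChange Γ(Y, V) z = 0 → z = 0) :
    IsBC θ hle := by
  letI := (g.appLE U V hle).hom.toAlgebra
  letI := baseModule (g := g) N hle
  haveI : IsScalarTower Γ(X, U) Γ(Y, V) Γ(N, V) := IsScalarTower.of_algebraMap_smul fun _ _ => rfl
  refine IsBaseChange.of_equiv (LinearEquiv.ofBijective _ ⟨(injective_iff_map_eq_zero _).2 hrel, fun t => ?_⟩)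
    fun s => LinearMap.liftBaseChange_one_tmul _ _ _
  induction hgen t using Submodule.span_induction with
  | mem t ht =>
    obtain ⟨s, rfl⟩ := ht
    exact ⟨1 ⊗ₜ s, LinearMap.liftBaseChange_one_tmul _ _ _⟩
  | zero => exact ⟨0, map_zero _⟩
  | add a b _ _ ha hb =>
    obtain ⟨⟨a', rfl⟩, ⟨b', rfl⟩⟩ := And.intro ha hb
    exact ⟨a' + b', map_add _ _ _⟩
  | smul c a _ ha =>
    obtain ⟨a', rfl⟩ := ha
    exact ⟨c • a', map_smul _ _ _⟩

theorem isBC_congr {U U' : X.Opens} {V V' : Y.Opens} {hle : V ≤ g ⁻¹ᵁ U} (hle' : V' ≤ g ⁻¹ᵁ U') (eU : U' = U)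
    (eV : V' = V) (h : IsBC θ hle) : IsBC θ hle' := by
  subst eU; subst eV; exact h

theorem homEquiv_symm_pullSec {U : X.Opens} (s : Γ(M, U)) :
    (((Scheme.Modules.pullbackPushforwardAdjunction g).homEquiv M N).symm θ).app (g ⁻¹ᵁ U) (M2.pullSec g M s) =
      θ.app U s := by
  have h1 := congrArg (fun f => Scheme.Modules.Hom.app f U)
    (((Scheme.Modules.pullbackPushforwardAdjunction g).homEquiv M N).apply_symm_apply θ)
  simp only [Adjunction.homEquiv_unit] at h1
  exact congr($h1 s)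

theorem bijective_of_comp {P Q R : Type u} {e : P → Q} (he : Function.Bijective e) {f : Q → R}
    (hf : Function.Bijective (f ∘ e)) : Function.Bijective f := (Function.Bijective.of_comp_iff f he).1 hf

/-- A morphism of modules on a stalk. -/
noncomputable def stk {Z : Scheme.{u}} {P Q : Z.Modules} (φ : P ⟶ Q) (z : Z) :
    (P.presheaf.stalk z : Type u) →+ (Q.presheaf.stalk z : Type u) :=
  ((M1.stalkAb z).map φ).hom

/-- Morphisms of modules are linear on stalks. -/
theorem stalk_map_smul {Z : Scheme.{u}} {P Q : Z.Modules} (φ : P ⟶ Q) {z : Z} (c : Z.presheaf.stalk z)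
    (a : (P.presheaf.stalk z : Type u)) :
    stk φ z (c • a) = c • stk φ z a := by
  obtain ⟨U, hU, s, rfl⟩ := P.presheaf.exists_germ_eq a
  obtain ⟨V, hV, r, rfl⟩ := Z.presheaf.exists_germ_eq c
  rw [← TopCat.Presheaf.germ_res_apply P.presheaf (homOfLE (inf_le_left : U ⊓ V ≤ U)) z ⟨hU, hV⟩ s,
    ← TopCat.Presheaf.germ_res_apply Z.presheaf (homOfLE (inf_le_right : U ⊓ V ≤ V)) z ⟨hU, hV⟩ r]
  have hz : z ∈ U ⊓ V := ⟨hU, hV⟩
  refine Eq.trans (congrArg (stk φ z) (M1.germ_smul P hz _ _).symm) ?_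
  refine (TopCat.Presheaf.stalkFunctor_map_germ_apply (U ⊓ V) z hz φ.mapPresheaf _).trans ?_
  refine Eq.trans ?_ (congrArg (_ • ·) (TopCat.Presheaf.stalkFunctor_map_germ_apply (U ⊓ V) z hz φ.mapPresheaf _).symm)
  exact (congrArg _ (Scheme.Modules.Hom.app_smul φ _ _)).trans (M1.germ_smul Q _ _ _)

/-- The adjoint of `θ` is an isomorphism, sections over small affine opens forming base changes. -/
theorem isIso_of_isBC (hM : Coh.IsQCoh M) (hN : Coh.IsQCoh N)
    (h : ∀ y : Y, ∃ (U : X.Opens) (_ : IsAffineOpen U) (V : Y.Opens) (_ : IsAffineOpen V) (hle : V ≤ g ⁻¹ᵁ U),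
      y ∈ V ∧ IsBC θ hle) :
    IsIso (((Scheme.Modules.pullbackPushforwardAdjunction g).homEquiv M N).symm θ) := by
  haveI := hM
  haveI := hN
  set ν := ((Scheme.Modules.pullbackPushforwardAdjunction g).homEquiv M N).symm θ with hν
  refine (M1.isIso_iff_stalk _).2 fun y => ?_
  obtain ⟨U, hU, V, hV, hle, hy, hbc⟩ := h y
  have hyU : g y ∈ U := hle hy
  letI := (g.appLE U V hle).hom.toAlgebra
  letI := baseModule (g := g) N hle
  haveI : IsScalarTower Γ(X, U) Γ(Y, V) Γ(N, V) := IsScalarTower.of_algebraMap_smul fun _ _ => rfl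
  letI algX : Algebra Γ(X, U) (X.presheaf.stalk (g y)) := (X.presheaf.germ U (g y) hyU).hom.toAlgebra
  letI algY : Algebra Γ(Y, V) (Y.presheaf.stalk y) := (Y.presheaf.germ V y hy).hom.toAlgebra
  letI algD : Algebra Γ(X, U) (Y.presheaf.stalk y) :=
    ((algebraMap Γ(Y, V) (Y.presheaf.stalk y)).comp (algebraMap Γ(X, U) Γ(Y, V))).toAlgebra
  haveI : IsScalarTower Γ(X, U) Γ(Y, V) (Y.presheaf.stalk y) := IsScalarTower.of_algebraMap_eq' rfl
  haveI : IsScalarTower Γ(X, U) (X.presheaf.stalk (g y)) (Y.presheaf.stalk y) :=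
    IsScalarTower.of_algebraMap_eq fun r => by
      show Y.presheaf.germ V y hy (g.appLE U V hle r) = (g.stalkMap y) (X.presheaf.germ U (g y) hyU r)
      rw [Scheme.Hom.germ_stalkMap_apply, Scheme.Hom.appLE, CommRingCat.comp_apply]
      exact TopCat.Presheaf.germ_res_apply Y.presheaf (homOfLE hle) y hy _
  letI mA : Module Γ(X, U) (M.presheaf.stalk (g y) : Type u) := M1.stalkModule M hyU
  haveI : IsScalarTower Γ(X, U) (X.presheaf.stalk (g y)) (M.presheaf.stalk (g y) : Type u) :=
    IsScalarTower.of_algebraMap_smul fun _ _ => rfl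
  letI mB : Module Γ(Y, V) (N.presheaf.stalk y : Type u) := M1.stalkModule N hy
  haveI : IsScalarTower Γ(Y, V) (Y.presheaf.stalk y) (N.presheaf.stalk y : Type u) :=
    IsScalarTower.of_algebraMap_smul fun _ _ => rfl
  letI mD : Module Γ(X, U) (N.presheaf.stalk y : Type u) := Module.compHom _ (algebraMap Γ(X, U) Γ(Y, V))
  haveI : IsScalarTower Γ(X, U) Γ(Y, V) (N.presheaf.stalk y : Type u) :=
    IsScalarTower.of_algebraMap_smul fun _ _ => rfl
  haveI : IsScalarTower Γ(X, U) (Y.presheaf.stalk y) (N.presheaf.stalk y : Type u) :=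
    IsScalarTower.of_algebraMap_smul fun _ _ => rfl
  haveI := hU.isLocalization_stalk ⟨g y, hyU⟩
  haveI := hV.isLocalization_stalk ⟨y, hy⟩
  haveI ha' := M1.isLocalizedModule_germ M hU hyU
  haveI hb' := M1.isLocalizedModule_germ N hV hy
  have ha := (isLocalizedModule_iff_isBaseChange (hU.primeIdealOf ⟨g y, hyU⟩).asIdeal.primeCompl
    (X.presheaf.stalk (g y)) (M1.germₗ M hyU)).1 ha'
  have hb := (isLocalizedModule_iff_isBaseChange (hV.primeIdealOf ⟨y, hy⟩).asIdeal.primeCompl
    (Y.presheaf.stalk y) (M1.germₗ N hy)).1 hb'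
  let Φ : M2.BC g y M →ₗ[Y.presheaf.stalk y] (N.presheaf.stalk y : Type u) :=
    { toFun := fun z => stk ν y (M2.pullStalkEquiv g y M z)
      map_add' := fun z w => (congrArg (stk ν y) (map_add _ z w)).trans (map_add _ _ _)
      map_smul' := fun c z => by
        refine (congrArg (stk ν y) (map_smul _ c z)).trans ?_
        exact stalk_map_smul ν c _ }
  have hΦ : Function.Bijective Φ := bijective_of_isBaseChange hbc ha hb Φ fun s => by
    show stk ν y (M2.pullStalkEquiv g y M (1 ⊗ₜ M.presheaf.germ U (g y) hyU s)) =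
      N.presheaf.germ V y hy (M1.mres N hle (θ.app U s))
    rw [M2.pullStalkEquiv_tmul g y M hyU, ← homEquiv_symm_pullSec θ s]
    refine (TopCat.Presheaf.stalkFunctor_map_germ_apply (g ⁻¹ᵁ U) y hyU ν.mapPresheaf _).trans ?_
    exact (TopCat.Presheaf.germ_res_apply N.presheaf (homOfLE hle) y hy _).symm
  exact bijective_of_comp (M2.pullStalkEquiv g y M).bijective hΦ

end Groth.Agent.PullBC11
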