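import Groth.Agent.Lib.PullBC11.Crit
import Mathlib.RingTheory.LocalProperties.Exactness

/-!
Conversely: an isomorphism out of an inverse image gives base changes on sections over affine opens.
-/

set_option autoImplicit false
set_option linter.style.haveILetI false

universe u

open CategoryTheory Limits AlgebraicGeometry TopologicalSpace Opposite TensorProduct

namespace Groth.Agent.PullBC11

variable {X Y : Scheme.{u}} {g : Y ⟶ X} {M : X.Modules} {N : Y.Modules}
  (θ : M ⟶ (Scheme.Modules.pushforward g).obj N)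

theorem isLocalizedModule_stalk (hM : Coh.IsQCoh M)
    [hiso : IsIso (((Scheme.Modules.pullbackPushforwardAdjunction g).homEquiv M N).symm θ)]
    {U : X.Opens} (hU : IsAffineOpen U) {V : Y.Opens} (hV : IsAffineOpen V) (hle : V ≤ g ⁻¹ᵁ U)
    {y : Y} (hy : y ∈ V) :
    letI := (g.appLE U V hle).hom.toAlgebra
    letI := baseModule (g := g) N hle
    haveI : IsScalarTower Γ(X, U) Γ(Y, V) Γ(N, V) := IsScalarTower.of_algebraMap_smul fun _ _ => rfl
    letI := M1.stalkModule N hy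
    IsLocalizedModule (hV.primeIdealOf ⟨y, hy⟩).asIdeal.primeCompl
      ((M1.germₗ N hy).comp ((sect θ hle).liftBaseChange Γ(Y, V))) := by
  haveI := hM
  set ν := ((Scheme.Modules.pullbackPushforwardAdjunction g).homEquiv M N).symm θ with hν
  letI := (g.appLE U V hle).hom.toAlgebra
  letI := baseModule (g := g) N hle
  haveI : IsScalarTower Γ(X, U) Γ(Y, V) Γ(N, V) := IsScalarTower.of_algebraMap_smul fun _ _ => rfl
  have hyU : g y ∈ U := hle hy
  letI algX : Algebra Γ(X, U) (X.presheaf.stalk (g y)) := (X.presheaf.germ U (g y) hyU).hom.toAlgebra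
  letI algY : Algebra Γ(Y, V) (Y.presheaf.stalk y) := (Y.presheaf.germ V y hy).hom.toAlgebra
  letI algD : Algebra Γ(X, U) (Y.presheaf.stalk y) :=
    ((algebraMap Γ(Y, V) (Y.presheaf.stalk y)).comp (algebraMap Γ(X, U) Γ(Y, V))).toAlgebra
  haveI : IsScalarTower Γ(X, U) Γ(Y, V) (Y.presheaf.stalk y) := IsScalarTower.of_algebraMap_eq' rfl
  haveI : IsScalarTower Γ(X, U) (X.presheaf.stalk (g y)) (Y.presheaf.stalk y) :=
    IsScalarTower.of_algebraMap_eq fun r => by
      show Y.presheaf.germ V y hy (g.appLE U V hle r) = (g.stalkMap y) (X.presheaf.germ U (g y) hyU r)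
      rw [Scheme.Hom.germ_stalkMap_apply, Scheme.Hom.appLE, CommRingCat.comp_apply]
      exact TopCat.Presheaf.germ_res_apply Y.presheaf (homOfLE hle) y hy _
  letI mA : Module Γ(X, U) (M.presheaf.stalk (g y) : Type u) := M1.stalkModule M hyU
  haveI : IsScalarTower Γ(X, U) (X.presheaf.stalk (g y)) (M.presheaf.stalk (g y) : Type u) :=
    IsScalarTower.of_algebraMap_smul fun _ _ => rfl
  letI mB : Module Γ(Y, V) (N.presheaf.stalk y : Type u) := M1.stalkModule N hy
  haveI : IsScalarTower Γ(Y, V) (Y.presheaf.stalk y) (N.presheaf.stalk y : Type u) :=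
    IsScalarTower.of_algebraMap_smul fun _ _ => rfl
  letI mD : Module Γ(X, U) (N.presheaf.stalk y : Type u) := Module.compHom _ (algebraMap Γ(X, U) Γ(Y, V))
  haveI : IsScalarTower Γ(X, U) Γ(Y, V) (N.presheaf.stalk y : Type u) :=
    IsScalarTower.of_algebraMap_smul fun _ _ => rfl
  haveI : IsScalarTower Γ(X, U) (Y.presheaf.stalk y) (N.presheaf.stalk y : Type u) :=
    IsScalarTower.of_algebraMap_smul fun _ _ => rfl
  haveI := hU.isLocalization_stalk ⟨g y, hyU⟩
  haveI := hV.isLocalization_stalk ⟨y, hy⟩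
  haveI ha' := M1.isLocalizedModule_germ M hU hyU
  have ha := (isLocalizedModule_iff_isBaseChange (hU.primeIdealOf ⟨g y, hyU⟩).asIdeal.primeCompl
    (X.presheaf.stalk (g y)) (M1.germₗ M hyU)).1 ha'
  let Φ : M2.BC g y M →ₗ[Y.presheaf.stalk y] (N.presheaf.stalk y : Type u) :=
    { toFun := fun z => stk ν y (M2.pullStalkEquiv g y M z)
      map_add' := fun z w => (congrArg (stk ν y) (map_add _ z w)).trans (map_add _ _ _)
      map_smul' := fun c z => by
        refine (congrArg (stk ν y) (map_smul _ c z)).trans ?_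
        exact stalk_map_smul ν c _ }
  have hst : Function.Bijective (stk ν y) := ConcreteCategory.bijective_of_isIso
    ((M1.stalkAb y).map ν)
  let E := LinearEquiv.ofBijective Φ ⟨fun p q h => (M2.pullStalkEquiv g y M).injective (hst.1 h),
    fun t => by
      obtain ⟨w, rfl⟩ := hst.2 t
      obtain ⟨z, rfl⟩ := (M2.pullStalkEquiv g y M).surjective w
      exact ⟨z, rfl⟩⟩
  have d := ha.comp (TensorProduct.isBaseChange (X.presheaf.stalk (g y))
    (M.presheaf.stalk (g y) : Type u) (Y.presheaf.stalk y))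
  have hcomp : IsBaseChange (Y.presheaf.stalk y)
      (((M1.germₗ N hy).restrictScalars Γ(X, U)).comp (sect θ hle)) := by
    refine IsBaseChange.of_equiv (d.equiv.trans E) fun s => ?_
    rw [LinearEquiv.trans_apply, d.equiv_tmul, one_smul]
    show stk ν y (M2.pullStalkEquiv g y M (1 ⊗ₜ M.presheaf.germ U (g y) hyU s)) =
      N.presheaf.germ V y hy (M1.mres N hle (θ.app U s))
    rw [M2.pullStalkEquiv_tmul g y M hyU, ← homEquiv_symm_pullSec θ s]
    refine (TopCat.Presheaf.stalkFunctor_map_germ_apply (g ⁻¹ᵁ U) y hyU ν.mapPresheaf _).trans ?_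
    exact (TopCat.Presheaf.germ_res_apply N.presheaf (homOfLE hle) y hy _).symm
  refine (isLocalizedModule_iff_isBaseChange (hV.primeIdealOf ⟨y, hy⟩).asIdeal.primeCompl
    (Y.presheaf.stalk y) _).2 ?_
  refine IsBaseChange.of_comp (T := Y.presheaf.stalk y) (O := (N.presheaf.stalk y : Type u))
    (TensorProduct.isBaseChange Γ(X, U) Γ(M, U) Γ(Y, V)) ?_
  convert hcomp using 1
  ext s
  simp

/-- An isomorphism `g^* M ⟶ N` gives base changes on sections over affine opens. -/
theorem isBC_of_isIso (hM : Coh.IsQCoh M) (hN : Coh.IsQCoh N)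
    [IsIso (((Scheme.Modules.pullbackPushforwardAdjunction g).homEquiv M N).symm θ)]
    {U : X.Opens} (hU : IsAffineOpen U) {V : Y.Opens} (hV : IsAffineOpen V) (hle : V ≤ g ⁻¹ᵁ U) :
    IsBC θ hle := by
  haveI := hN
  letI := (g.appLE U V hle).hom.toAlgebra
  letI := baseModule (g := g) N hle
  haveI : IsScalarTower Γ(X, U) Γ(Y, V) Γ(N, V) := IsScalarTower.of_algebraMap_smul fun _ _ => rfl
  set Θ := (sect θ hle).liftBaseChange Γ(Y, V) with hΘ
  let pt : ∀ (P : Ideal Γ(Y, V)) [P.IsMaximal], Y := fun P hP => hV.fromSpec ⟨P, hP.isPrime⟩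
  have hpt : ∀ (P : Ideal Γ(Y, V)) [P.IsMaximal], pt P ∈ V := fun P _ =>
    hV.range_fromSpec.le ⟨_, rfl⟩
  have hprime : ∀ (P : Ideal Γ(Y, V)) [hP : P.IsMaximal],
      (hV.primeIdealOf ⟨pt P, hpt P⟩).asIdeal.primeCompl = P.primeCompl := fun P hP => by
    have : hV.primeIdealOf ⟨pt P, hpt P⟩ = (⟨P, hP.isPrime⟩ : PrimeSpectrum Γ(Y, V)) :=
      hV.fromSpec.isOpenEmbedding.injective (hV.fromSpec_primeIdealOf _)
    ext r
    show r ∉ (hV.primeIdealOf ⟨pt P, hpt P⟩).asIdeal ↔ r ∉ P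
    rw [this]
  have hloc : ∀ (P : Ideal Γ(Y, V)) [hP : P.IsMaximal] (t : Γ(N, V)),
      ∃ s : Γ(Y, V), s ∉ P ∧ ∃ z, Θ z = s • t := fun P hP t => by
    letI := M1.stalkModule N (hpt P)
    haveI h1 := isLocalizedModule_stalk θ hM hU hV hle (hpt P)
    haveI h2 := M1.isLocalizedModule_germ N hV (hpt P)
    rw [hprime P] at h1 h2
    obtain ⟨⟨z, s⟩, e⟩ := IsLocalizedModule.surj P.primeCompl ((M1.germₗ N (hpt P)).comp Θ) (M1.germₗ N (hpt P) t)
    have e' : M1.germₗ N (hpt P) ((s : Γ(Y, V)) • t) = M1.germₗ N (hpt P) (Θ z) := (map_smul _ _ _).trans e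
    obtain ⟨s', hs'⟩ := (IsLocalizedModule.eq_iff_exists P.primeCompl _).1 e'
    refine ⟨(s' : Γ(Y, V)) * s, fun h => (hP.isPrime.mem_or_mem h).elim s'.2 s.2, (s' : Γ(Y, V)) • z, ?_⟩
    rw [map_smul, mul_smul]
    exact hs'.symm
  have hker : ∀ (P : Ideal Γ(Y, V)) [hP : P.IsMaximal] (z : Γ(Y, V) ⊗[Γ(X, U)] Γ(M, U)), Θ z = 0 →
      ∃ s : Γ(Y, V), s ∉ P ∧ s • z = 0 := fun P hP z hz => by
    letI := M1.stalkModule N (hpt P)
    haveI h1 := isLocalizedModule_stalk θ hM hU hV hle (hpt P)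
    rw [hprime P] at h1
    have e' : ((M1.germₗ N (hpt P)).comp Θ) z = ((M1.germₗ N (hpt P)).comp Θ) 0 := by
      rw [map_zero, LinearMap.comp_apply, hz, map_zero]
    obtain ⟨s, hs⟩ := (IsLocalizedModule.eq_iff_exists P.primeCompl _).1 e'
    exact ⟨s, s.2, hs.trans (smul_zero _)⟩
  have hbij : Function.Bijective Θ := by
    refine ⟨(injective_iff_map_eq_zero _).2 fun z hz => ?_, fun t => ?_⟩
    · by_contra hne
      have hI : LinearMap.ker (LinearMap.toSpanSingleton Γ(Y, V) _ z) ≠ ⊤ := fun h => hne (by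
        simpa using (LinearMap.ker_eq_top.1 h ▸ rfl : LinearMap.toSpanSingleton Γ(Y, V) _ z 1 = 0))
      obtain ⟨P, hP, hle'⟩ := Ideal.exists_le_maximal _ hI
      obtain ⟨s, hs, hsz⟩ := hker P z hz
      exact hs (hle' hsz)
    · by_contra hne
      have hI : Submodule.comap (LinearMap.toSpanSingleton Γ(Y, V) _ t) (LinearMap.range Θ) ≠ ⊤ := fun h => hne (by
        have h1 : (1 : Γ(Y, V)) ∈ Submodule.comap (LinearMap.toSpanSingleton Γ(Y, V) _ t) (LinearMap.range Θ) := by
          rw [h]; trivial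
        simpa using h1)
      obtain ⟨P, hP, hle'⟩ := Ideal.exists_le_maximal _ hI
      obtain ⟨s, hs, z, hz⟩ := hloc P t
      exact hs (hle' ⟨z, hz⟩)
  exact IsBaseChange.of_equiv (LinearEquiv.ofBijective Θ hbij) fun s => LinearMap.liftBaseChange_one_tmul _ _ _

end Groth.Agent.PullBC11
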