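import Groth.Agent.Lib.PullBC11.Crit
import Groth.Agent.Lib.GrTw11.Frac
import Groth.Agent.Lib.GrTw11.QCoh
import Mathlib.RingTheory.IsTensorProduct

/-!
Sections of `O(n)` over basic opens commute with base change of the graded ring.
-/

set_option autoImplicit false
set_option linter.style.haveILetI false

universe u

open CategoryTheory Limits AlgebraicGeometry TopologicalSpace Opposite TensorProduct
open scoped HomogeneousIdeal

namespace Groth.Agent.PullBC11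

variable {A σ : Type u} [CommRing A] [SetLike σ A] [AddSubgroupClass σ A] {𝒜 : ℕ → σ} [GradedRing 𝒜]
  {B τ : Type u} [CommRing B] [SetLike τ B] [AddSubgroupClass τ B] {ℬ : ℕ → τ} [GradedRing ℬ]
  (ψ : 𝒜 →+*ᵍ ℬ) (hψ : ℬ₊ ≤ (𝒜₊).map ψ)

theorem decompose_gradedHom (a : A) (i : ℕ) :
    (DirectSum.decompose ℬ (ψ a) i : B) = ψ (DirectSum.decompose 𝒜 a i) := by
  classical
  induction a using DirectSum.Decomposition.inductionOn 𝒜 with
  | zero => simp
  | @homogeneous j a =>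
    have hm : ψ (a : A) ∈ ℬ j := ψ.map_mem a.2
    by_cases hji : j = i
    · subst hji
      exact (DirectSum.decompose_of_mem_same ℬ hm).trans (congrArg ψ (DirectSum.decompose_of_mem_same 𝒜 a.2).symm)
    · exact (DirectSum.decompose_of_mem_ne ℬ hm hji).trans
        ((map_zero ψ).symm.trans (congrArg ψ (DirectSum.decompose_of_mem_ne 𝒜 a.2 hji).symm))
  | add a b ha hb => rw [map_add, DirectSum.decompose_add, DirectSum.decompose_add, DFinsupp.add_apply,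
      DFinsupp.add_apply, AddMemClass.coe_add, AddMemClass.coe_add, map_add, ha, hb]

/-- Functions pulled back along `Proj.map`, on values. -/
theorem valO_appLE_map {U : (Proj 𝒜).Opens} {V : (Proj ℬ).Opens} (hle : V ≤ Proj.map ψ hψ ⁻¹ᵁ U)
    (r : Γ(Proj 𝒜, U)) (y : ProjectiveSpectrum ℬ) (hy : y ∈ V) :
    GrTw11.valO ((Proj.map ψ hψ).appLE U V hle r) y hy =
      GrTwist.locMap ψ hψ y (GrTw11.valO r (ProjectiveSpectrum.comap ψ hψ y) (hle hy)) :=
  HomogeneousLocalization.val_localRingHom _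

/-- Values of the comparison of twisting sheaves. -/
theorem val_sect_comap {n : ℤ} {U : (Proj 𝒜).Opens} {V : (Proj ℬ).Opens} (hle : V ≤ Proj.map ψ hψ ⁻¹ᵁ U)
    (s : Γ(GrTwist.twist 𝒜 n, U)) (y : ProjectiveSpectrum ℬ) (hy : y ∈ V) :
    GrTw11.val (n := n) (M1.mres (GrTwist.twist ℬ n) hle ((GrTwist.comap ψ hψ n).app U s)) y hy =
      GrTwist.locMap ψ hψ y (GrTw11.val (n := n) s (ProjectiveSpectrum.comap ψ hψ y) (hle hy)) := rfl

section piece

variable {R' : Type u} [CommRing R'] [Algebra R' A]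

variable (𝒜) in
/-- A homogeneous piece as a submodule over scalars of degree zero. -/
def piece (hA0 : ∀ r : R', algebraMap R' A r ∈ 𝒜 0) (i : ℕ) : Submodule R' A where
  carrier := (𝒜 i : Set A)
  zero_mem' := zero_mem (𝒜 i)
  add_mem' := add_mem
  smul_mem' r a ha := by
    rw [Algebra.smul_def]
    exact Eq.mp (congrArg (_ ∈ 𝒜 ·) (zero_add i)) (SetLike.mul_mem_graded (hA0 r) ha)

variable (𝒜) in
/-- The projection to a piece. -/
noncomputable def pieceProj (hA0 : ∀ r : R', algebraMap R' A r ∈ 𝒜 0) (i : ℕ) : A →ₗ[R'] piece 𝒜 hA0 i where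
  toFun a := ⟨DirectSum.decompose 𝒜 a i, SetLike.coe_mem _⟩
  map_add' a b := Subtype.ext (by rw [DirectSum.decompose_add, DFinsupp.add_apply, AddMemClass.coe_add]; rfl)
  map_smul' r a := Subtype.ext (by
    show (DirectSum.decompose 𝒜 (r • a) i : A) = r • (DirectSum.decompose 𝒜 a i : A)
    rw [Algebra.smul_def, Algebra.smul_def]
    exact DirectSum.coe_decompose_mul_of_left_mem_zero 𝒜 (hA0 r))

end piece

section core

variable {R' R : Type u} [CommRing R'] [CommRing R] [Algebra R' A] [Algebra R' R] [Algebra R B] [Algebra R' B]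
  [IsScalarTower R' R B] (ψl : A →ₗ[R'] B) (hψl : ∀ a, ψl a = ψ a)
  (hA0 : ∀ r : R', algebraMap R' A r ∈ 𝒜 0) (hB0 : ∀ r : R, algebraMap R B r ∈ ℬ 0)

/-- The comparison in one degree. -/
noncomputable def mu (i : ℕ) : R ⊗[R'] piece 𝒜 hA0 i →ₗ[R] B :=
  (ψl.comp (piece 𝒜 hA0 i).subtype).liftBaseChange R

include hψl in
theorem mu_tmul (i : ℕ) (r : R) (a : piece 𝒜 hA0 i) :
    mu ψl hA0 i (r ⊗ₜ a) = algebraMap R B r * ψ (a : A) := by
  rw [mu, LinearMap.liftBaseChange_tmul, Algebra.smul_def, LinearMap.comp_apply, hψl]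
  rfl

include hψl hB0 in
theorem mu_mem (i : ℕ) (w : R ⊗[R'] piece 𝒜 hA0 i) : mu ψl hA0 i w ∈ ℬ i := by
  induction w using TensorProduct.induction_on with
  | zero => rw [map_zero]; exact zero_mem _
  | tmul r a =>
    rw [mu_tmul ψ ψl hψl]
    exact Eq.mp (congrArg (_ ∈ ℬ ·) (zero_add i)) (SetLike.mul_mem_graded (hB0 r) (ψ.map_mem a.2))
  | add a b ha hb => rw [map_add]; exact add_mem ha hb

variable (hbc : IsBaseChange R ψl)

include hbc in
theorem mu_injective (i : ℕ) : Function.Injective (mu (R := R) ψl hA0 i) := by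
  have e : ∀ w : R ⊗[R'] piece 𝒜 hA0 i,
      mu ψl hA0 i w = hbc.equiv ((piece 𝒜 hA0 i).subtype.baseChange R w) := fun w => by
    induction w using TensorProduct.induction_on with
    | zero => simp
    | tmul r a => rw [LinearMap.baseChange_tmul, hbc.equiv_tmul, mu, LinearMap.liftBaseChange_tmul]; rfl
    | add a b ha hb => rw [map_add, map_add, map_add, ha, hb]
  have hinj : Function.Injective ((piece 𝒜 hA0 i).subtype.baseChange R) :=
    Function.LeftInverse.injective (g := (pieceProj 𝒜 hA0 i).baseChange R) fun w => by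
      rw [← LinearMap.comp_apply, ← LinearMap.baseChange_comp,
        show pieceProj 𝒜 hA0 i ∘ₗ (piece 𝒜 hA0 i).subtype = LinearMap.id from
          LinearMap.ext fun a => Subtype.ext (DirectSum.decompose_of_mem_same 𝒜 a.2),
        LinearMap.baseChange_id, LinearMap.id_apply]
  intro v w h
  rw [e, e] at h
  exact hinj (hbc.equiv.injective h)

include hψl hB0 hbc in
theorem exists_mu_eq (i : ℕ) {b : B} (hb : b ∈ ℬ i) : ∃ w, mu (R := R) ψl hA0 i w = b := by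
  obtain ⟨z, rfl⟩ := hbc.equiv.surjective b
  suffices ∀ z, ∃ w, mu ψl hA0 i w = (DirectSum.decompose ℬ (hbc.equiv z) i : B) by
    obtain ⟨w, hw⟩ := this z
    exact ⟨w, hw.trans (DirectSum.decompose_of_mem_same ℬ hb)⟩
  intro z
  induction z using TensorProduct.induction_on with
  | zero => exact ⟨0, by simp⟩
  | tmul r a =>
    refine ⟨r ⊗ₜ pieceProj 𝒜 hA0 i a, ?_⟩
    rw [mu_tmul ψ ψl hψl, hbc.equiv_tmul, Algebra.smul_def, hψl,
      show (pieceProj 𝒜 hA0 i a : A) = DirectSum.decompose 𝒜 a i from rfl, ← decompose_gradedHom ψ]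
    exact (DirectSum.coe_decompose_mul_of_left_mem_zero ℬ (hB0 r)).symm
  | add v w hv hw =>
    obtain ⟨⟨v', hv'⟩, ⟨w', hw'⟩⟩ := And.intro hv hw
    exact ⟨v' + w', by simp [hv', hw']⟩

variable {d : ℕ} {h : A} (hh : h ∈ 𝒜 d)

include hB0 hh in
/-- The constant `r` as a function on `D₊(ψ h)`. -/
theorem exists_const (r : R) : ∃ c : Γ(Proj ℬ, Proj.basicOpen ℬ (ψ h)),
    ∀ y hy, GrTw11.valO c y hy = Localization.mk (algebraMap R B r) ⟨ψ h ^ 0, GrTw11.pow_notMem ℬ hy 0⟩ :=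
  ⟨Proj.awayToSection ℬ (ψ h) (HomogeneousLocalization.Away.mk ℬ (ψ.map_mem hh) 0 _
    (by rw [zero_smul]; exact hB0 r)), fun _ _ => rfl⟩

theorem hle_basic : Proj.basicOpen ℬ (ψ h) ≤ Proj.map ψ hψ ⁻¹ᵁ Proj.basicOpen 𝒜 h :=
  (Proj.map_preimage_basicOpen ψ hψ h).ge

theorem deg_eq {d : ℕ} {n : ℤ} {i k : ℕ} (e : (i : ℤ) = k * d + n) : (i : ℤ) = ((k * d : ℕ) : ℤ) + n := by
  rw [e]; push_cast; rfl

/-- The fraction `a / h ^ k`. -/
noncomputable def secF (n : ℤ) {k i : ℕ} (e : (i : ℤ) = k * d + n) (a : piece 𝒜 hA0 i) :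
    Γ(GrTwist.twist 𝒜 n, Proj.basicOpen 𝒜 h) :=
  GrTw11.frac 𝒜 _ a.2 (GrTw11.pow_mem_smul 𝒜 hh k) (deg_eq e) (fun _ hx => GrTw11.pow_notMem 𝒜 hx k)

theorem val_secF (n : ℤ) {k i : ℕ} (e : (i : ℤ) = k * d + n) (a : piece 𝒜 hA0 i)
    (x : ProjectiveSpectrum 𝒜) (hx : x ∈ Proj.basicOpen 𝒜 h) :
    GrTw11.val (n := n) (secF hA0 hh n e a) x hx =
      Localization.mk (a : A) ⟨h ^ k, GrTw11.pow_notMem 𝒜 hx k⟩ := rfl

/-- The constant `r`. -/
noncomputable def cst (r : R) : Γ(Proj ℬ, Proj.basicOpen ℬ (ψ h)) := (exists_const ψ hB0 hh r).choose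

theorem valO_cst (r : R) (y : ProjectiveSpectrum ℬ) (hy : y ∈ Proj.basicOpen ℬ (ψ h)) :
    GrTw11.valO (cst ψ hB0 hh r) y hy =
      Localization.mk (algebraMap R B r) ⟨ψ h ^ 0, GrTw11.pow_notMem ℬ hy 0⟩ :=
  (exists_const ψ hB0 hh r).choose_spec y hy

theorem valO_mul {U : (Proj ℬ).Opens} (c c' : Γ(Proj ℬ, U)) (y : ProjectiveSpectrum ℬ) (hy : y ∈ U) :
    GrTw11.valO (c * c') y hy = GrTw11.valO c y hy * GrTw11.valO c' y hy :=
  HomogeneousLocalization.val_mul _ _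

theorem valO_add {U : (Proj ℬ).Opens} (c c' : Γ(Proj ℬ, U)) (y : ProjectiveSpectrum ℬ) (hy : y ∈ U) :
    GrTw11.valO (c + c') y hy = GrTw11.valO c y hy + GrTw11.valO c' y hy :=
  HomogeneousLocalization.val_add _ _

/-- A function `a / h ^ p`, pulled back. -/
theorem valO_pull {p : ℕ} {a : A} (ha : a ∈ 𝒜 (p • d)) (y : ProjectiveSpectrum ℬ)
    (hy : y ∈ Proj.basicOpen ℬ (ψ h)) :
    GrTw11.valO ((Proj.map ψ hψ).appLE (Proj.basicOpen 𝒜 h) (Proj.basicOpen ℬ (ψ h)) (hle_basic ψ hψ)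
        (Proj.awayToSection 𝒜 h (HomogeneousLocalization.Away.mk 𝒜 hh p a ha))) y hy =
      Localization.mk (ψ a) ⟨ψ h ^ p, GrTw11.pow_notMem ℬ hy p⟩ := by
  refine (valO_appLE_map ψ hψ _ _ y hy).trans ?_
  refine ((congrArg (GrTwist.locMap ψ hψ y) (GrTw11.valO_awayToSection 𝒜 hh ha (ProjectiveSpectrum.comap ψ hψ y)
    (hle_basic ψ hψ hy) (GrTw11.pow_notMem 𝒜 (hle_basic ψ hψ hy) p))).trans (GrTwist.locMap_mk ψ hψ y _ _)).trans ?_
  simp only [map_pow]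

theorem zero_deg {r' : R'} (hA0 : ∀ r : R', algebraMap R' A r ∈ 𝒜 0) : algebraMap R' A r' ∈ 𝒜 (0 • d) := by
  rw [zero_smul]; exact hA0 r'

include hψl in
theorem algebraMap_comm (r' : R') : ψ (algebraMap R' A r') = algebraMap R B (algebraMap R' R r') := by
  rw [← IsScalarTower.algebraMap_apply R' R B, ← hψl, Algebra.algebraMap_eq_smul_one, map_smul, hψl, map_one,
    Algebra.algebraMap_eq_smul_one]

include hψl in
theorem cst_smul (r' : R') (r : R) :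
    cst ψ hB0 hh (r' • r) = (Proj.map ψ hψ).appLE (Proj.basicOpen 𝒜 h) (Proj.basicOpen ℬ (ψ h)) (hle_basic ψ hψ)
      (Proj.awayToSection 𝒜 h (HomogeneousLocalization.Away.mk 𝒜 hh 0 (algebraMap R' A r') (zero_deg hA0))) *
        cst ψ hB0 hh r := by
  refine GrTw11.sectionO_ext fun y hy => ?_
  rw [valO_mul, valO_cst, valO_cst, valO_pull, Localization.mk_mul, GrTw11.mk_eq_iff,
    algebraMap_comm (R := R) ψ ψl hψl, Algebra.smul_def, map_mul]
  exact ⟨1, GrTw11.one_notMem_prime ℬ y, by simp⟩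

/-- The base ring map on functions. -/
@[reducible] noncomputable def fAlg :
    Algebra Γ(Proj 𝒜, Proj.basicOpen 𝒜 h) Γ(Proj ℬ, Proj.basicOpen ℬ (ψ h)) :=
  ((Proj.map ψ hψ).appLE _ _ (hle_basic ψ hψ)).hom.toAlgebra

/-- Tensors with denominators `h ^ k`. -/
noncomputable def iota (n : ℤ) {k i : ℕ} (e : (i : ℤ) = k * d + n) :
    letI := fAlg ψ hψ (h := h)
    R ⊗[R'] piece 𝒜 hA0 i →+
      Γ(Proj ℬ, Proj.basicOpen ℬ (ψ h)) ⊗[Γ(Proj 𝒜, Proj.basicOpen 𝒜 h)]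
        Γ(GrTwist.twist 𝒜 n, Proj.basicOpen 𝒜 h) :=
  letI := fAlg ψ hψ (h := h)
  TensorProduct.liftAddHom
    (AddMonoidHom.mk' (fun r => AddMonoidHom.mk' (fun a => cst ψ hB0 hh r ⊗ₜ secF hA0 hh n e a) fun a b => by
      rw [← TensorProduct.tmul_add]
      refine congrArg _ (GrTw11.sec_ext fun x hx => ?_)
      exact (Localization.add_mk_self (a : A) _ (b : A)).symm)
      fun r r' => AddMonoidHom.ext fun a => by
        show cst ψ hB0 hh (r + r') ⊗ₜ _ = cst ψ hB0 hh r ⊗ₜ _ + cst ψ hB0 hh r' ⊗ₜ _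
        rw [← TensorProduct.add_tmul]
        refine congrArg (· ⊗ₜ _) (GrTw11.sectionO_ext fun y hy => ?_)
        rw [valO_cst, valO_add, valO_cst, valO_cst, map_add, Localization.add_mk_self])
    fun r' r a => by
      show cst ψ hB0 hh (r' • r) ⊗ₜ secF hA0 hh n e a = cst ψ hB0 hh r ⊗ₜ secF hA0 hh n e (r' • a)
      rw [cst_smul ψ hψ ψl hψl hA0 hB0 hh]
      refine (TensorProduct.smul_tmul (R' := Γ(Proj 𝒜, Proj.basicOpen 𝒜 h))
        (Proj.awayToSection 𝒜 h (HomogeneousLocalization.Away.mk 𝒜 hh 0 (algebraMap R' A r') (zero_deg hA0)))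
        (cst ψ hB0 hh r) (secF hA0 hh n e a)).trans ?_
      refine congrArg _ (GrTw11.sec_ext fun x hx => ?_)
      refine (GrTw11.val_smul _ _ x hx).trans ?_
      rw [val_secF, val_secF, GrTw11.valO_awayToSection 𝒜 hh _ x hx (GrTw11.pow_notMem 𝒜 hx 0),
        Localization.mk_mul, GrTw11.mk_eq_iff]
      exact ⟨1, GrTw11.one_notMem_prime 𝒜 x, by simp [Algebra.smul_def]⟩

theorem iota_tmul (n : ℤ) {k i : ℕ} (e : (i : ℤ) = k * d + n) (r : R) (a : piece 𝒜 hA0 i) :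
    letI := fAlg ψ hψ (h := h)
    iota ψ hψ ψl hψl hA0 hB0 hh n e (r ⊗ₜ a) = cst ψ hB0 hh r ⊗ₜ secF hA0 hh n e a := rfl

/-- The map to the sections upstairs. -/
noncomputable def lft (n : ℤ) :
    letI := fAlg ψ hψ (h := h)
    Γ(Proj ℬ, Proj.basicOpen ℬ (ψ h)) ⊗[Γ(Proj 𝒜, Proj.basicOpen 𝒜 h)]
        Γ(GrTwist.twist 𝒜 n, Proj.basicOpen 𝒜 h) →+ Γ(GrTwist.twist ℬ n, Proj.basicOpen ℬ (ψ h)) :=
  letI := fAlg ψ hψ (h := h)
  letI := baseModule (g := Proj.map ψ hψ) (GrTwist.twist ℬ n) (hle_basic ψ hψ (h := h))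
  haveI : IsScalarTower Γ(Proj 𝒜, Proj.basicOpen 𝒜 h) Γ(Proj ℬ, Proj.basicOpen ℬ (ψ h))
      Γ(GrTwist.twist ℬ n, Proj.basicOpen ℬ (ψ h)) := IsScalarTower.of_algebraMap_smul fun _ _ => rfl
  ((sect (GrTwist.comap ψ hψ n) (hle_basic ψ hψ (h := h))).liftBaseChange
    Γ(Proj ℬ, Proj.basicOpen ℬ (ψ h))).toAddMonoidHom

theorem val_lft_tmul (n : ℤ) (c : Γ(Proj ℬ, Proj.basicOpen ℬ (ψ h)))
    (s : Γ(GrTwist.twist 𝒜 n, Proj.basicOpen 𝒜 h)) (y : ProjectiveSpectrum ℬ)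
    (hy : y ∈ Proj.basicOpen ℬ (ψ h)) :
    letI := fAlg ψ hψ (h := h)
    GrTw11.val (n := n) (lft ψ hψ n (c ⊗ₜ s)) y hy = GrTw11.valO c y hy *
      GrTwist.locMap ψ hψ y (GrTw11.val (n := n) s (ProjectiveSpectrum.comap ψ hψ y) (hle_basic ψ hψ hy)) := by
  letI := fAlg ψ hψ (h := h)
  letI := baseModule (g := Proj.map ψ hψ) (GrTwist.twist ℬ n) (hle_basic ψ hψ (h := h))
  haveI : IsScalarTower Γ(Proj 𝒜, Proj.basicOpen 𝒜 h) Γ(Proj ℬ, Proj.basicOpen ℬ (ψ h))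
      Γ(GrTwist.twist ℬ n, Proj.basicOpen ℬ (ψ h)) := IsScalarTower.of_algebraMap_smul fun _ _ => rfl
  refine (congrArg (fun t : Γ(GrTwist.twist ℬ n, Proj.basicOpen ℬ (ψ h)) => GrTw11.val (n := n) t y hy)
    (LinearMap.liftBaseChange_tmul _ _ c s)).trans ?_
  exact GrTw11.val_smul _ _ y hy

theorem val_lft_iota (n : ℤ) {k i : ℕ} (e : (i : ℤ) = k * d + n) (w : R ⊗[R'] piece 𝒜 hA0 i)
    (y : ProjectiveSpectrum ℬ) (hy : y ∈ Proj.basicOpen ℬ (ψ h)) :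
    GrTw11.val (n := n) (lft ψ hψ n (iota ψ hψ ψl hψl hA0 hB0 hh n e w)) y hy =
      Localization.mk (mu ψl hA0 i w) ⟨ψ h ^ k, GrTw11.pow_notMem ℬ hy k⟩ := by
  letI := fAlg ψ hψ (h := h)
  induction w using TensorProduct.induction_on with
  | zero => rw [map_zero, map_zero, map_zero, Localization.mk_zero]; rfl
  | tmul r a =>
    rw [iota_tmul, val_lft_tmul, valO_cst, val_secF, GrTwist.locMap_mk, Localization.mk_mul, mu_tmul ψ ψl hψl,
      GrTw11.mk_eq_iff]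
    exact ⟨1, GrTw11.one_notMem_prime ℬ y, by simp [map_pow]⟩
  | add v w hv hw =>
    rw [map_add, map_add, map_add, ← Localization.add_mk_self, ← hv, ← hw]
    rfl

include hψl in
theorem exists_raise (n : ℤ) {k i : ℕ} (e : (i : ℤ) = k * d + n) (w : R ⊗[R'] piece 𝒜 hA0 i) (N : ℕ) :
    ∃ (e' : ((i + N * d : ℕ) : ℤ) = (k + N : ℕ) * d + n) (w' : R ⊗[R'] piece 𝒜 hA0 (i + N * d)),
      iota ψ hψ ψl hψl hA0 hB0 hh n e' w' = iota ψ hψ ψl hψl hA0 hB0 hh n e w ∧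
        mu ψl hA0 (i + N * d) w' = ψ h ^ N * mu ψl hA0 i w := by
  have e' : ((i + N * d : ℕ) : ℤ) = (k + N : ℕ) * d + n := by push_cast; rw [e]; ring
  refine ⟨e', ?_⟩
  induction w using TensorProduct.induction_on with
  | zero => exact ⟨0, by simp, by simp⟩
  | tmul r a =>
    refine ⟨r ⊗ₜ ⟨h ^ N * a, Eq.mp (congrArg (_ ∈ 𝒜 ·) (add_comm _ _))
      (SetLike.mul_mem_graded (GrTw11.pow_mem_smul 𝒜 hh N) a.2)⟩, ?_, ?_⟩
    · rw [iota_tmul, iota_tmul]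
      refine congrArg _ (GrTw11.sec_ext fun x hx => ?_)
      rw [val_secF, val_secF, GrTw11.mk_eq_iff]
      exact ⟨1, GrTw11.one_notMem_prime 𝒜 x, by rw [pow_add]; ring⟩
    · rw [mu_tmul ψ ψl hψl, mu_tmul ψ ψl hψl, map_mul, map_pow]
      ring
  | add v w hv hw =>
    obtain ⟨⟨v', hv1, hv2⟩, ⟨w', hw1, hw2⟩⟩ := And.intro hv hw
    exact ⟨v' + w', by rw [map_add, map_add, hv1, hw1], by rw [map_add, map_add, hv2, hw2, mul_add]⟩

include hψl hB0 hbc in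
theorem exists_iota_eq (hd : 0 < d) (n : ℤ) :
    letI := fAlg ψ hψ (h := h)
    ∀ z : Γ(Proj ℬ, Proj.basicOpen ℬ (ψ h)) ⊗[Γ(Proj 𝒜, Proj.basicOpen 𝒜 h)]
        Γ(GrTwist.twist 𝒜 n, Proj.basicOpen 𝒜 h),
      ∃ (k i : ℕ) (e : (i : ℤ) = k * d + n) (w : R ⊗[R'] piece 𝒜 hA0 i),
        z = iota ψ hψ ψl hψl hA0 hB0 hh n e w := by
  letI := fAlg ψ hψ (h := h)
  have hψh : ψ h ∈ ℬ d := ψ.map_mem hh
  intro z
  induction z using TensorProduct.induction_on with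
  | zero =>
    refine ⟨n.natAbs, (n.natAbs * d + n).toNat, ?_, 0, (map_zero _).symm⟩
    have : n.natAbs ≤ n.natAbs * d := Nat.le_mul_of_pos_right _ hd
    have : (n.natAbs : ℤ) ≤ n.natAbs * d := by exact_mod_cast this
    rw [Int.toNat_of_nonneg (by omega)]
  | tmul c s =>
    obtain ⟨i, k, a, ha, hi, hs⟩ := GrTw11.exists_eq_frac_of_pos 𝒜 hd hh (s : GrTw11.Sec (𝒜 := 𝒜) n _)
    let one₀ : Γ(GrTwist.twist ℬ 0, Proj.basicOpen ℬ (ψ h)) :=
      GrTw11.frac ℬ _ (n := 0) SetLike.GradedOne.one_mem SetLike.GradedOne.one_mem (by simp)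
        fun y _ => GrTw11.one_notMem_prime ℬ y
    obtain ⟨q, p, b, hb, hq, hc⟩ :=
      GrTw11.exists_eq_frac_of_pos ℬ hd hψh ((c • one₀ :) : GrTw11.Sec (𝒜 := ℬ) 0 _)
    obtain ⟨w, hw⟩ := exists_mu_eq ψ ψl hψl hA0 hB0 hbc q hb
    obtain rfl : q = p * d := by
      zify; omega
    have e : ((p * d + i : ℕ) : ℤ) = (p + k : ℕ) * d + n := by push_cast; rw [hi]; ring
    suffices ∀ w : R ⊗[R'] piece 𝒜 hA0 (p * d), ∀ c : Γ(Proj ℬ, Proj.basicOpen ℬ (ψ h)),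
        (∀ y hy, GrTw11.valO c y hy =
          Localization.mk (mu ψl hA0 (p * d) w) ⟨ψ h ^ p, GrTw11.pow_notMem ℬ hy p⟩) →
        ∃ w', c ⊗ₜ[Γ(Proj 𝒜, Proj.basicOpen 𝒜 h)] s = iota ψ hψ ψl hψl hA0 hB0 hh n e w' by
      obtain ⟨w', hw'⟩ := this w c fun y hy => by
        rw [hw]
        refine Eq.trans ?_ (hc y hy)
        refine ((GrTw11.val_smul c one₀ y hy).trans ?_).symm
        refine (congrArg (_ * ·) (GrTw11.val_frac y hy)).trans ?_
        rw [show (⟨(1 : B), _⟩ : y.asHomogeneousIdeal.toIdeal.primeCompl) = 1 from rfl, Localization.mk_one, mul_one]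
      exact ⟨_, _, e, w', hw'⟩
    clear hc hw w hb
    intro w
    induction w using TensorProduct.induction_on with
    | zero =>
      intro c hc'
      refine ⟨0, ?_⟩
      rw [map_zero, show c = 0 from GrTw11.sectionO_ext fun y hy => by
        rw [hc', map_zero, Localization.mk_zero]; exact HomogeneousLocalization.val_zero.symm,
        TensorProduct.zero_tmul]
    | tmul r a' =>
      intro c hc'
      have ha₁ : (a' : A) ∈ 𝒜 (p * d) := a'.2
      refine ⟨r ⊗ₜ ⟨(a' : A) * a, (show (a' : A) * a ∈ 𝒜 (p * d + i) from SetLike.mul_mem_graded ha₁ ha)⟩, ?_⟩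
      have ha' : (a' : A) ∈ 𝒜 (p • d) := by rw [smul_eq_mul]; exact a'.2
      let f' : Γ(Proj 𝒜, Proj.basicOpen 𝒜 h) :=
        Proj.awayToSection 𝒜 h (HomogeneousLocalization.Away.mk 𝒜 hh p (a' : A) ha')
      have hc2 : c = f' • cst ψ hB0 hh r := GrTw11.sectionO_ext fun y hy => by
        rw [hc', Algebra.smul_def, valO_mul, valO_cst]
        show _ = GrTw11.valO ((Proj.map ψ hψ).appLE _ _ _ f') y hy * _
        rw [valO_pull, Localization.mk_mul, mu_tmul ψ ψl hψl, GrTw11.mk_eq_iff]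
        exact ⟨1, GrTw11.one_notMem_prime ℬ y, by simp; ring⟩
      rw [iota_tmul, hc2, TensorProduct.smul_tmul]
      refine congrArg _ (GrTw11.sec_ext fun x hx => ?_)
      refine (GrTw11.val_smul _ _ x hx).trans ?_
      rw [val_secF, GrTw11.valO_awayToSection 𝒜 hh ha' x hx (GrTw11.pow_notMem 𝒜 hx p)]
      refine (congrArg (_ * ·) (hs x hx)).trans ?_
      rw [Localization.mk_mul, GrTw11.mk_eq_iff]
      exact ⟨1, GrTw11.one_notMem_prime 𝒜 x, by simp [pow_add]⟩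
    | add v w hv hw =>
      intro c hc'
      let fr : ∀ u : R ⊗[R'] piece 𝒜 hA0 (p * d), Γ(Proj ℬ, Proj.basicOpen ℬ (ψ h)) := fun u =>
        Proj.awayToSection ℬ (ψ h) (HomogeneousLocalization.Away.mk ℬ hψh p (mu ψl hA0 (p * d) u)
          (by rw [smul_eq_mul]; exact mu_mem ψ ψl hψl hA0 hB0 _ u))
      obtain ⟨v', hv'⟩ := hv (fr v) fun _ _ => rfl
      obtain ⟨w', hw'⟩ := hw (fr w) fun _ _ => rfl
      refine ⟨v' + w', ?_⟩
      rw [map_add, ← hv', ← hw', ← TensorProduct.add_tmul]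
      refine congrArg (· ⊗ₜ _) (GrTw11.sectionO_ext fun y hy => ?_)
      rw [hc', map_add, ← Localization.add_mk_self, valO_add]
      rfl
  | add v w hv hw =>
    obtain ⟨k, i, e, a, rfl⟩ := hv
    obtain ⟨k', i', e', b, rfl⟩ := hw
    have bump : ∀ {k i : ℕ} (e : (i : ℤ) = k * d + n) (w : R ⊗[R'] piece 𝒜 hA0 i) (k' : ℕ), k ≤ k' →
        ∃ i' e' w', iota ψ hψ ψl hψl hA0 hB0 hh n (k := k') (i := i') e' w' =
          iota ψ hψ ψl hψl hA0 hB0 hh n e w := by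
      intro k i e w k' hk
      obtain ⟨N, rfl⟩ := Nat.le.dest hk
      obtain ⟨e', w', h1, -⟩ := exists_raise ψ hψ ψl hψl hA0 hB0 hh n e w N
      exact ⟨_, e', w', h1⟩
    obtain ⟨i₁, e₁, a₁, h₁⟩ := bump e a _ (le_max_left k k')
    obtain ⟨i₂, e₂, b₁, h₂⟩ := bump e' b _ (le_max_right k k')
    obtain rfl : i₁ = i₂ := by omega
    exact ⟨_, _, e₁, a₁ + b₁, by rw [map_add, h₁, h₂]⟩

include hψl hA0 hB0 hbc hh in
theorem isBC_comap_basicOpen (hd : 0 < d) (n : ℤ) :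
    IsBC (GrTwist.comap ψ hψ n) (hle_basic ψ hψ (h := h)) := by
  letI := fAlg ψ hψ (h := h)
  letI := baseModule (g := Proj.map ψ hψ) (GrTwist.twist ℬ n) (hle_basic ψ hψ (h := h))
  haveI : IsScalarTower Γ(Proj 𝒜, Proj.basicOpen 𝒜 h) Γ(Proj ℬ, Proj.basicOpen ℬ (ψ h))
      Γ(GrTwist.twist ℬ n, Proj.basicOpen ℬ (ψ h)) := IsScalarTower.of_algebraMap_smul fun _ _ => rfl
  have hψh : ψ h ∈ ℬ d := ψ.map_mem hh
  refine isBC_of _ _ (fun t => ?_) fun z hz => ?_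
  · obtain ⟨i, k, b, hb, hi, ht⟩ := GrTw11.exists_eq_frac_of_pos ℬ hd hψh (t : GrTw11.Sec (𝒜 := ℬ) n _)
    obtain ⟨w, rfl⟩ := exists_mu_eq ψ ψl hψl hA0 hB0 hbc i hb
    rw [show t = lft ψ hψ n (iota ψ hψ ψl hψl hA0 hB0 hh n hi w) from
      GrTw11.sec_ext fun y hy => (ht y hy).trans (val_lft_iota ψ hψ ψl hψl hA0 hB0 hh n hi w y hy).symm]
    generalize iota ψ hψ ψl hψl hA0 hB0 hh n hi w = z
    induction z using TensorProduct.induction_on with
    | zero => rw [map_zero]; exact zero_mem _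
    | tmul c s =>
      have e : lft ψ hψ n (c ⊗ₜ s) = c • M1.mres (GrTwist.twist ℬ n) (hle_basic ψ hψ)
          ((GrTwist.comap ψ hψ n).app (Proj.basicOpen 𝒜 h) s) :=
        LinearMap.liftBaseChange_tmul _ _ c s
      rw [e]
      exact Submodule.smul_mem _ c (Submodule.subset_span ⟨s, rfl⟩)
    | add a b ha hb => rw [map_add]; exact add_mem ha hb
  · obtain ⟨k, i, e, w, rfl⟩ := exists_iota_eq ψ hψ ψl hψl hA0 hB0 hbc hh hd n z
    obtain ⟨N, hN⟩ := GrTw11.exists_pow_mul_eq_zero_of_mk ℬ hd hψh (mu_mem ψ ψl hψl hA0 hB0 i w)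
      fun y hy => ⟨ψ h ^ k, GrTw11.pow_notMem ℬ hy k,
        (val_lft_iota ψ hψ ψl hψl hA0 hB0 hh n e w y hy).symm.trans
          (congrArg (fun s => GrTw11.val (n := n) s y hy) hz)⟩
    obtain ⟨e', w', h1, h2⟩ := exists_raise ψ hψ ψl hψl hA0 hB0 hh n e w N
    rw [← h1, mu_injective ψl hA0 hbc _ ((h2.trans hN).trans (map_zero _).symm), map_zero]

end core

end Groth.Agent.PullBC11

namespace Groth.Agent.PullBC11

section global

variable {A σ : Type u} [CommRing A] [SetLike σ A] [AddSubgroupClass σ A] {𝒜 : ℕ → σ} [GradedRing 𝒜]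
  {B τ : Type u} [CommRing B] [SetLike τ B] [AddSubgroupClass τ B] {ℬ : ℕ → τ} [GradedRing ℬ]
  (ψ : 𝒜 →+*ᵍ ℬ) (hψ : ℬ₊ ≤ (𝒜₊).map ψ)
  {R' R : Type u} [CommRing R'] [CommRing R] [Algebra R' A] [Algebra R' R] [Algebra R B] [Algebra R' B]
  [IsScalarTower R' R B] (ψl : A →ₗ[R'] B)

/-- Base change of the graded ring commutes with the twisting sheaves. -/
theorem nonempty_pullback_twist (hψl : ∀ a, ψl a = ψ a) (hA0 : ∀ r : R', algebraMap R' A r ∈ 𝒜 0)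
    (hB0 : ∀ r : R, algebraMap R B r ∈ ℬ 0) (hbc : IsBaseChange R ψl) (n : ℤ) :
    Nonempty ((Scheme.Modules.pullback (Proj.map ψ hψ)).obj (GrTwist.twist 𝒜 n) ≅ GrTwist.twist ℬ n) := by
  haveI := isIso_of_isBC (GrTwist.comap ψ hψ n) (GrTw11.isQCoh_twist' 𝒜 n) (GrTw11.isQCoh_twist' ℬ n) fun y => by
    have hcov : ProjectiveSpectrum.comap ψ hψ y ∈
        (⨆ g : {g : A // ∃ k : ℕ, 0 < k ∧ g ∈ 𝒜 k}, Proj.basicOpen 𝒜 g.1) := by
      rw [RelProj11.iSup_basicOpen_pos 𝒜]; trivial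
    obtain ⟨⟨g, d, hd, hg⟩, hy⟩ := TopologicalSpace.Opens.mem_iSup.1 hcov
    exact ⟨Proj.basicOpen 𝒜 g, Proj.isAffineOpen_basicOpen 𝒜 g hg hd, Proj.basicOpen ℬ (ψ g),
      Proj.isAffineOpen_basicOpen ℬ (ψ g) (ψ.map_mem hg) hd, hle_basic ψ hψ, hy,
      isBC_comap_basicOpen ψ hψ ψl hψl hA0 hB0 hbc hg hd n⟩
  exact ⟨asIso (((Scheme.Modules.pullbackPushforwardAdjunction (Proj.map ψ hψ)).homEquiv _ _).symm
    (GrTwist.comap ψ hψ n))⟩

end global

end Groth.Agent.PullBC11
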