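import Groth.Agent.Lib.PullBC11.Crit

/-!
Transport of `IsBC` along charts.
-/

set_option autoImplicit false
set_option linter.style.haveILetI false

universe u

open CategoryTheory Limits AlgebraicGeometry TopologicalSpace Opposite TensorProduct

namespace Groth.Agent.PullBC11

section alg

variable {A B A₁ B₁ M N M₁ N₁ : Type u} [CommRing A] [CommRing B] [CommRing A₁] [CommRing B₁]
  [Algebra A B] [Algebra A₁ B₁] [AddCommGroup M] [AddCommGroup N] [AddCommGroup M₁] [AddCommGroup N₁]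
  [Module A M] [Module A₁ M₁] [Module A N] [Module B N] [IsScalarTower A B N]
  [Module A₁ N₁] [Module B₁ N₁] [IsScalarTower A₁ B₁ N₁]

/-- Base change transported along semilinear equivalences. -/
theorem isBaseChange_transfer (eX : A ≃+* A₁) (eY : B ≃+* B₁) (eM : M ≃+ M₁) (eN : N ≃+ N₁)
    (heA : ∀ r, eY (algebraMap A B r) = algebraMap A₁ B₁ (eX r)) (heM : ∀ r s, eM (r • s) = eX r • eM s)
    (heN : ∀ c t, eN (c • t) = eY c • eN t) (η : M →ₗ[A] N) (η₁ : M₁ →ₗ[A₁] N₁)
    (compat : ∀ s, eN (η s) = η₁ (eM s)) (h : IsBaseChange B₁ η₁) : IsBaseChange B η := by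
  let T : B ⊗[A] M →+ B₁ ⊗[A₁] M₁ :=
    TensorProduct.liftAddHom
      (AddMonoidHom.mk' (fun c => AddMonoidHom.mk' (fun s => eY c ⊗ₜ eM s) fun s s' => by
        rw [map_add, TensorProduct.tmul_add])
        fun c c' => AddMonoidHom.ext fun s => by
          show eY (c + c') ⊗ₜ _ = eY c ⊗ₜ _ + eY c' ⊗ₜ _
          rw [map_add, TensorProduct.add_tmul])
      fun r c s => by
        show eY (r • c) ⊗ₜ[A₁] eM s = eY c ⊗ₜ eM (r • s)
        rw [Algebra.smul_def, map_mul, heA, ← Algebra.smul_def, TensorProduct.smul_tmul, heM]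
  let T' : B₁ ⊗[A₁] M₁ →+ B ⊗[A] M :=
    TensorProduct.liftAddHom
      (AddMonoidHom.mk' (fun c => AddMonoidHom.mk' (fun s => eY.symm c ⊗ₜ eM.symm s) fun s s' => by
        rw [map_add, TensorProduct.tmul_add])
        fun c c' => AddMonoidHom.ext fun s => by
          show eY.symm (c + c') ⊗ₜ _ = eY.symm c ⊗ₜ _ + eY.symm c' ⊗ₜ _
          rw [map_add, TensorProduct.add_tmul])
      fun r c s => by
        show eY.symm (r • c) ⊗ₜ[A] eM.symm s = eY.symm c ⊗ₜ eM.symm (r • s)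
        have e1 : eY.symm (r • c) = eX.symm r • eY.symm c := eY.injective (by
          rw [Algebra.smul_def (eX.symm r), map_mul, heA, eY.apply_symm_apply, eY.apply_symm_apply,
            eX.apply_symm_apply, Algebra.smul_def])
        have e2 : eM.symm (r • s) = eX.symm r • eM.symm s := eM.injective (by
          rw [eM.apply_symm_apply, heM, eX.apply_symm_apply, eM.apply_symm_apply])
        rw [e1, e2, TensorProduct.smul_tmul]
  have hT'T : ∀ z, T' (T z) = z := fun z => by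
    induction z using TensorProduct.induction_on with
    | zero => rw [map_zero, map_zero]
    | tmul c s =>
      show eY.symm (eY c) ⊗ₜ[A] eM.symm (eM s) = _
      rw [eY.symm_apply_apply, eM.symm_apply_apply]
    | add a b ha hb => rw [map_add, map_add, ha, hb]
  have hTT' : ∀ z, T (T' z) = z := fun z => by
    induction z using TensorProduct.induction_on with
    | zero => rw [map_zero, map_zero]
    | tmul c s =>
      show eY (eY.symm c) ⊗ₜ[A₁] eM (eM.symm s) = _
      rw [eY.apply_symm_apply, eM.apply_symm_apply]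
    | add a b ha hb => rw [map_add, map_add, ha, hb]
  have hlift : ∀ z, h.equiv (T z) = eN (η.liftBaseChange B z) := fun z => by
    induction z using TensorProduct.induction_on with
    | zero => rw [map_zero, map_zero, map_zero, map_zero]
    | tmul c s =>
      rw [LinearMap.liftBaseChange_tmul, heN, compat]
      exact h.equiv_tmul _ _
    | add a b ha hb => rw [map_add, map_add, map_add, map_add, ha, hb]
  have hb : Function.Bijective (η.liftBaseChange B) := by
    refine (Function.Bijective.of_comp_iff' eN.bijective _).1 ?_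
    rw [show eN ∘ η.liftBaseChange B = h.equiv ∘ T from funext fun z => (hlift z).symm]
    exact h.equiv.bijective.comp (Function.bijective_iff_has_inverse.2 ⟨T', hT'T, hTT'⟩)
  exact IsBaseChange.of_equiv (LinearEquiv.ofBijective _ hb) fun s =>
    (LinearMap.liftBaseChange_tmul _ _ _ _).trans (one_smul _ _)

end alg

variable {X Y X₁ Y₁ : Scheme.{u}} {g : Y ⟶ X} {g₁ : Y₁ ⟶ X₁} {j : X₁ ⟶ X} {j' : Y₁ ⟶ Y}
  [IsOpenImmersion j] [IsOpenImmersion j'] (sq : j' ≫ g = g₁ ≫ j)

include sq in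
omit [IsOpenImmersion j] [IsOpenImmersion j'] in
theorem preimage_le {U : X.Opens} {V : Y.Opens} (hle : V ≤ g ⁻¹ᵁ U) : j' ⁻¹ᵁ V ≤ g₁ ⁻¹ᵁ (j ⁻¹ᵁ U) :=
  (j'.preimage_mono hle).trans (by rw [← Scheme.Hom.comp_preimage, ← Scheme.Hom.comp_preimage, sq])

include sq in
omit [IsOpenImmersion j] [IsOpenImmersion j'] in
theorem app_appLE {U : X.Opens} {V : Y.Opens} (hle : V ≤ g ⁻¹ᵁ U) (r : Γ(X, U)) :
    j'.app V (g.appLE U V hle r) = g₁.appLE (j ⁻¹ᵁ U) (j' ⁻¹ᵁ V) (preimage_le sq hle) (j.app U r) := by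
  have h1 : g.appLE U V hle ≫ j'.app V = j.app U ≫ g₁.appLE (j ⁻¹ᵁ U) (j' ⁻¹ᵁ V) (preimage_le sq hle) := by
    rw [j'.app_eq_appLE, Scheme.Hom.appLE_comp_appLE, ← Scheme.Hom.comp_appLE]
    simp only [sq]
  exact congr($h1 r)

include sq in
omit [IsOpenImmersion j] [IsOpenImmersion j'] in
theorem preimage_preimage (U : X.Opens) : j' ⁻¹ᵁ (g ⁻¹ᵁ U) = g₁ ⁻¹ᵁ (j ⁻¹ᵁ U) := by
  rw [← Scheme.Hom.comp_preimage, ← Scheme.Hom.comp_preimage, sq]

include sq in
omit [IsOpenImmersion j] [IsOpenImmersion j'] in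
theorem app_appLE_self {U : X.Opens} (r : Γ(X, U)) :
    j'.app (g ⁻¹ᵁ U) (g.app U r) =
      g₁.appLE (j ⁻¹ᵁ U) (j' ⁻¹ᵁ (g ⁻¹ᵁ U)) (preimage_preimage sq U).le (j.app U r) := by
  rw [Scheme.Hom.app_eq_appLE g]
  exact app_appLE sq le_rfl r

variable {M : X.Modules} {N : Y.Modules} {M₁ : X₁.Modules} {N₁ : Y₁.Modules}
  (θ : M ⟶ (Scheme.Modules.pushforward g).obj N) (θ₁ : M₁ ⟶ (Scheme.Modules.pushforward g₁).obj N₁)
  (lM : M ⟶ (Scheme.Modules.pushforward j).obj M₁) (lN : N ⟶ (Scheme.Modules.pushforward j').obj N₁)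

include sq in
theorem isBC_transfer {U : X.Opens} {V : Y.Opens} (hle : V ≤ g ⁻¹ᵁ U)
    (hU : U ≤ j.opensRange) (hV : V ≤ j'.opensRange)
    (bM : Function.Bijective (lM.app U)) (bN : Function.Bijective (lN.app V))
    (compat : ∀ s : Γ(M, U), lN.app V (M1.mres N hle (θ.app U s)) =
      M1.mres N₁ (preimage_le sq hle) (θ₁.app (j ⁻¹ᵁ U) (lM.app U s)))
    (h : IsBC θ₁ (preimage_le sq hle)) : IsBC θ hle := by
  letI := (g.appLE U V hle).hom.toAlgebra
  letI := baseModule (g := g) N hle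
  haveI : IsScalarTower Γ(X, U) Γ(Y, V) Γ(N, V) := IsScalarTower.of_algebraMap_smul fun _ _ => rfl
  letI := (g₁.appLE (j ⁻¹ᵁ U) (j' ⁻¹ᵁ V) (preimage_le sq hle)).hom.toAlgebra
  letI := baseModule (g := g₁) N₁ (preimage_le sq hle)
  haveI : IsScalarTower Γ(X₁, j ⁻¹ᵁ U) Γ(Y₁, j' ⁻¹ᵁ V) Γ(N₁, j' ⁻¹ᵁ V) :=
    IsScalarTower.of_algebraMap_smul fun _ _ => rfl
  haveI := j.isIso_app U hU
  haveI := j'.isIso_app V hV
  exact isBaseChange_transfer (M₁ := Γ(M₁, j ⁻¹ᵁ U)) (N₁ := Γ(N₁, j' ⁻¹ᵁ V))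
    (RingEquiv.ofBijective (j.app U).hom (ConcreteCategory.bijective_of_isIso (j.app U)))
    (RingEquiv.ofBijective (j'.app V).hom (ConcreteCategory.bijective_of_isIso (j'.app V)))
    (AddEquiv.ofBijective (lM.app U).hom bM) (AddEquiv.ofBijective (lN.app V).hom bN)
    (app_appLE sq hle) (fun r s => Scheme.Modules.Hom.app_smul lM r s)
    (fun c t => Scheme.Modules.Hom.app_smul lN c t) (sect θ hle) (sect θ₁ (preimage_le sq hle)) compat h

end Groth.Agent.PullBC11
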