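import Groth.Agent.Lib.PullBC11.Crit
import Mathlib.AlgebraicGeometry.Restrict

/-!
For an open immersion the adjoint of `M ⟶ g_* N` is an isomorphism as soon as it is bijective on sections
over the affine opens inside the image.
-/

set_option autoImplicit false
set_option linter.style.haveILetI false

universe u

open CategoryTheory Limits AlgebraicGeometry TopologicalSpace Opposite TensorProduct

namespace Groth.Agent.PullBC11

variable {X Y : Scheme.{u}} {g : Y ⟶ X} [IsOpenImmersion g] {M : X.Modules} {N : Y.Modules}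
  (θ : M ⟶ (Scheme.Modules.pushforward g).obj N)

theorem isBC_of_openImmersion {U : X.Opens} (hU : U ≤ g.opensRange) (hb : Function.Bijective (θ.app U)) :
    IsBC θ (U := U) (V := g ⁻¹ᵁ U) le_rfl := by
  haveI hi : IsIso (g.app U) := g.isIso_app U hU
  have hres : ∀ s : Γ(M, U), M1.mres N (le_refl (g ⁻¹ᵁ U)) (θ.app U s) = θ.app U s := fun s => by
    show N.presheaf.map (homOfLE (le_refl (g ⁻¹ᵁ U))).op _ = _
    rw [show (homOfLE (le_refl (g ⁻¹ᵁ U))).op = 𝟙 _ from rfl, CategoryTheory.Functor.map_id]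
    rfl
  refine isBC_of θ _ (fun t => ?_) ?_
  · obtain ⟨s, rfl⟩ := hb.2 t
    exact Submodule.subset_span ⟨s, hres s⟩
  · letI := (g.appLE U (g ⁻¹ᵁ U) le_rfl).hom.toAlgebra
    letI := baseModule (g := g) N (le_refl (g ⁻¹ᵁ U))
    haveI : IsScalarTower Γ(X, U) Γ(Y, g ⁻¹ᵁ U) Γ(N, g ⁻¹ᵁ U) := IsScalarTower.of_algebraMap_smul fun _ _ => rfl
    have hsurj : ∀ c : Γ(Y, g ⁻¹ᵁ U), ∃ r : Γ(X, U), algebraMap Γ(X, U) Γ(Y, g ⁻¹ᵁ U) r = c := fun c => by
      obtain ⟨r, hr⟩ := ((ConcreteCategory.isIso_iff_bijective (g.app U)).1 hi).2 c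
      refine ⟨r, ?_⟩
      show g.appLE U (g ⁻¹ᵁ U) le_rfl r = c
      rw [Scheme.Hom.appLE_eq_app]
      exact hr
    have key : ∀ w : Γ(Y, g ⁻¹ᵁ U) ⊗[Γ(X, U)] Γ(M, U), ∃ s : Γ(M, U), w = 1 ⊗ₜ s := fun w => by
      induction w using TensorProduct.induction_on with
      | zero => exact ⟨0, (tmul_zero _ _).symm⟩
      | tmul c s =>
        obtain ⟨r, rfl⟩ := hsurj c
        exact ⟨r • s, by rw [Algebra.algebraMap_eq_smul_one, smul_tmul]⟩
      | add a b ha hb =>
        obtain ⟨⟨s, rfl⟩, ⟨t, rfl⟩⟩ := And.intro ha hb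
        exact ⟨s + t, (tmul_add _ _ _).symm⟩
    intro z hz
    obtain ⟨s, rfl⟩ := key z
    rw [LinearMap.liftBaseChange_one_tmul] at hz
    have : θ.app U s = 0 := (hres s).symm.trans hz
    rw [(injective_iff_map_eq_zero _).1 hb.1 s this, tmul_zero]

/-- The adjoint is an isomorphism. -/
theorem isIso_of_bijective (hM : Coh.IsQCoh M) (hN : Coh.IsQCoh N)
    (h : ∀ U : X.Opens, IsAffineOpen U → U ≤ g.opensRange → Function.Bijective (θ.app U)) :
    IsIso (((Scheme.Modules.pullbackPushforwardAdjunction g).homEquiv M N).symm θ) := by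
  refine isIso_of_isBC θ hM hN fun y => ?_
  obtain ⟨U, hU, hyU, hUr⟩ := TopologicalSpace.Opens.isBasis_iff_nbhd.1 X.isBasis_affineOpens
    (show g y ∈ g.opensRange from ⟨y, rfl⟩)
  exact ⟨U, hU, g ⁻¹ᵁ U, hU.preimage_of_isOpenImmersion g hUr, le_rfl, hyU, isBC_of_openImmersion θ hUr (h U hU hUr)⟩

end Groth.Agent.PullBC11
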