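import Groth.Agent.Lib.EGA2.PConeMap
import Groth.Agent.Lib.GrTw11.QCoh
import Groth.Agent.Lib.Twist.Gen
import Groth.Agent.Lib.PicDesc21.Frame
import Groth.Agent.Lib.TwTensor11.Pair

/-!
The twisting sheaves along the morphism of a graded homomorphism, defined where it is.
-/

set_option autoImplicit false
set_option linter.style.haveILetI false

universe u

open CategoryTheory Limits AlgebraicGeometry TopologicalSpace Opposite HomogeneousLocalization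

namespace Groth.Agent.PullBC11

variable {A σ : Type u} [CommRing A] [SetLike σ A] [AddSubgroupClass σ A] {𝒜 : ℕ → σ} [GradedRing 𝒜]

/-- `awayι` on the functions given by fractions. -/
theorem appLE_awayι {f : A} {m : ℕ} (hf : f ∈ 𝒜 m) (hm : 0 < m) (x : Away 𝒜 f)
    (e : (⊤ : (Spec (CommRingCat.of (Away 𝒜 f))).Opens) ≤ Proj.awayι 𝒜 f hf hm ⁻¹ᵁ Proj.basicOpen 𝒜 f) :
    (Proj.awayι 𝒜 f hf hm).appLE (Proj.basicOpen 𝒜 f) ⊤ e (Proj.awayToSection 𝒜 f x) =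
      (Scheme.ΓSpecIso (CommRingCat.of (Away 𝒜 f))).inv x := by
  have h1 : (Proj.awayι 𝒜 f hf hm).appLE (Proj.basicOpen 𝒜 f) ⊤ e ≫
        (Proj.basicOpenIsoSpec 𝒜 f hf hm).hom.appLE ⊤ ⊤ le_top =
      (Proj.basicOpen 𝒜 f).ι.appLE (Proj.basicOpen 𝒜 f) ⊤ (by rw [Scheme.Opens.ι_preimage_self]) := by
    rw [Scheme.Hom.appLE_comp_appLE]
    simp only [← Proj.basicOpenIsoSpec_inv_ι 𝒜 f hf hm, Iso.hom_inv_id_assoc]
  have h2 : (Proj.basicOpenIsoSpec 𝒜 f hf hm).hom.appLE ⊤ ⊤ le_top = (Proj.basicOpenToSpec 𝒜 f).app ⊤ :=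
    Scheme.Hom.appLE_eq_app _
  have hi : Function.Bijective ((Proj.basicOpenIsoSpec 𝒜 f hf hm).hom.appLE ⊤ ⊤ le_top) :=
    by
        rw [show (Proj.basicOpenIsoSpec 𝒜 f hf hm).hom.appLE ⊤ ⊤ le_top =
          (Proj.basicOpenIsoSpec 𝒜 f hf hm).hom.app ⊤ from Scheme.Hom.appLE_eq_app _]
        exact (ConcreteCategory.isIso_iff_bijective _).1
          ((Proj.basicOpenIsoSpec 𝒜 f hf hm).hom.isIso_app ⊤ (by rw [Scheme.Hom.opensRange_of_isIso]))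
  apply hi.1
  refine (congr($h1 (Proj.awayToSection 𝒜 f x))).trans ?_
  refine Eq.trans ?_ (congr($h2 ((Scheme.ΓSpecIso (CommRingCat.of (Away 𝒜 f))).inv x))).symm
  refine Eq.trans ?_ (congr($(Proj.basicOpenToSpec_app_top 𝒜 f)
    ((Scheme.ΓSpecIso (CommRingCat.of (Away 𝒜 f))).inv x))).symm
  refine Eq.trans ?_ (congrArg (fun z => (Proj.basicOpen 𝒜 f).topIso.inv (Proj.awayToSection 𝒜 f z))
    ((Scheme.ΓSpecIso (CommRingCat.of (Away 𝒜 f))).inv_hom_id_apply x)).symm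
  rw [Scheme.Opens.ι_appLE]
  rfl

end Groth.Agent.PullBC11

namespace Groth.Agent.PullBC11

variable {R A B : Type u} [CommRing R] [CommRing A] [Algebra R A]
  {𝒜 : ℕ → Submodule R A} [GradedAlgebra 𝒜] [CommRing B] [Algebra R B]
  {ℬ : ℕ → Submodule R B} [GradedAlgebra ℬ] {φ : 𝒜 →+*ᵍ ℬ}
  {p : (PCone.dom φ : Scheme.{u}) ⟶ Proj 𝒜}
  (hp : ∀ (d : ℕ) (f : A) (hd : 0 < d) (hf : f ∈ 𝒜 d), PCone.chart φ hf hd ≫ p =
    Spec.map (CommRingCat.ofHom (Away.map φ f)) ≫ Proj.awayι 𝒜 f hf hd)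

include hp in
/-- Pulling back a fraction. -/
theorem app_eq_away_map {h : A} {d : ℕ} (hd : 0 < d) (hh : h ∈ 𝒜 d) (x : Away 𝒜 h) :
    p.appLE (Proj.basicOpen 𝒜 h) ((PCone.dom φ).ι ⁻¹ᵁ Proj.basicOpen ℬ (φ h)) (EGA2.pcone_preimage φ hp hd hh).ge
        (Proj.awayToSection 𝒜 h x) =
      (PCone.dom φ).ι.appLE (Proj.basicOpen ℬ (φ h)) ((PCone.dom φ).ι ⁻¹ᵁ Proj.basicOpen ℬ (φ h)) le_rfl
        (Proj.awayToSection ℬ (φ h) (Away.map φ h x)) := by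
  let c := PCone.chart φ hh hd
  have hc : c ≫ (PCone.dom φ).ι = Proj.awayι ℬ (φ h) (φ.2 hh) hd := IsOpenImmersion.lift_fac _ _ _
  haveI : IsOpenImmersion (c ≫ (PCone.dom φ).ι) := by rw [hc]; infer_instance
  haveI : IsOpenImmersion c := IsOpenImmersion.of_comp c (PCone.dom φ).ι
  have hpre : c ⁻¹ᵁ ((PCone.dom φ).ι ⁻¹ᵁ Proj.basicOpen ℬ (φ h)) = ⊤ := by
    rw [← Scheme.Hom.comp_preimage, hc, ← Proj.opensRange_awayι ℬ (φ h) (φ.2 hh) hd, Scheme.Hom.preimage_opensRange]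
  have hle : (PCone.dom φ).ι ⁻¹ᵁ Proj.basicOpen ℬ (φ h) ≤ c.opensRange := by
    intro y hy
    obtain ⟨z, hz⟩ : (PCone.dom φ).ι y ∈ (Proj.awayι ℬ (φ h) (φ.2 hh) hd).opensRange := by
      rw [Proj.opensRange_awayι]; exact hy
    refine ⟨z, (PCone.dom φ).ι.isOpenEmbedding.injective ?_⟩
    rw [← hc] at hz
    exact hz
  haveI := c.isIso_app _ hle
  have hinj : Function.Injective (c.appLE ((PCone.dom φ).ι ⁻¹ᵁ Proj.basicOpen ℬ (φ h)) ⊤ hpre.ge) := by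
    intro a b hab
    apply ((ConcreteCategory.isIso_iff_bijective (c.app ((PCone.dom φ).ι ⁻¹ᵁ Proj.basicOpen ℬ (φ h)))).1 inferInstance).1
    have hi : IsIso ((Spec (CommRingCat.of (Away ℬ (φ h)))).presheaf.map (homOfLE hpre.ge).op) := by
      haveI : IsIso (homOfLE hpre.ge).op := ⟨⟨(homOfLE hpre.le).op, Subsingleton.elim _ _, Subsingleton.elim _ _⟩⟩
      infer_instance
    exact ((ConcreteCategory.isIso_iff_bijective _).1 hi).1 hab
  apply hinj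
  have e2 : (⊤ : (Spec (CommRingCat.of (Away 𝒜 h))).Opens) ≤ Proj.awayι 𝒜 h hh hd ⁻¹ᵁ Proj.basicOpen 𝒜 h := by
    rw [← Proj.opensRange_awayι 𝒜 h hh hd, Scheme.Hom.preimage_opensRange]
  have e3 : (⊤ : (Spec (CommRingCat.of (Away ℬ (φ h)))).Opens) ≤
      Proj.awayι ℬ (φ h) (φ.2 hh) hd ⁻¹ᵁ Proj.basicOpen ℬ (φ h) := by
    rw [← Proj.opensRange_awayι ℬ (φ h) (φ.2 hh) hd, Scheme.Hom.preimage_opensRange]
  refine (congr($(Scheme.Hom.appLE_comp_appLE c p _ _ _ (EGA2.pcone_preimage φ hp hd hh).ge hpre.ge)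
    (Proj.awayToSection 𝒜 h x))).trans ?_
  refine Eq.trans ?_ (congr($(Scheme.Hom.appLE_comp_appLE c (PCone.dom φ).ι _ _ _ le_rfl hpre.ge)
    (Proj.awayToSection ℬ (φ h) (Away.map φ h x)))).symm
  simp only [hc, show c ≫ p = _ from hp d h hd hh]
  refine (congr($((Scheme.Hom.appLE_comp_appLE (Spec.map (CommRingCat.ofHom (Away.map φ h)))
    (Proj.awayι 𝒜 h hh hd) _ ⊤ ⊤ e2 le_top).symm) (Proj.awayToSection 𝒜 h x))).trans ?_
  rw [CommRingCat.comp_apply, appLE_awayι, appLE_awayι]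
  exact congr($((Scheme.ΓSpecIso_inv_naturality (CommRingCat.ofHom (Away.map φ h))).symm) x)

theorem pow_mem' {f : A} (hf : f ∈ 𝒜 1) (k : ℕ) : f ^ k ∈ 𝒜 k := by
  simpa [smul_eq_mul] using SetLike.pow_mem_graded k hf

include hp in
theorem nonempty_pullback_twist_pcone
    (hgen : (HomogeneousIdeal.irrelevant 𝒜).toIdeal ≤ Ideal.span (𝒜 1 : Set A)) (n : ℤ) :
    Nonempty ((Scheme.Modules.pullback p).obj (GrTwist.twist 𝒜 n) ≅
      (GrTwist.twist ℬ n).restrict (PCone.dom φ).ι) := by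
  obtain ⟨a, b, hab⟩ : ∃ a b : ℕ, n = (a : ℤ) - b := ⟨n.toNat, (-n).toNat, (Int.toNat_sub_toNat_neg n).symm⟩
  let G := PCone.dom φ
  let I := {f : A // f ∈ 𝒜 1}
  let U : I → (G : Scheme.{u}).Opens := fun f => p ⁻¹ᵁ Proj.basicOpen 𝒜 f.1
  have hU : ∀ f : I, U f = G.ι ⁻¹ᵁ Proj.basicOpen ℬ (φ f.1) := fun f =>
    EGA2.pcone_preimage φ hp Nat.one_pos f.2
  have hcov : ⨆ f, U f = ⊤ := top_le_iff.1 fun y _ => by
    obtain ⟨g, hg, hyg⟩ := TwTensor11.exists_degOne_notMem hgen (p y)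
    exact Opens.mem_iSup.2 ⟨⟨g, hg⟩, hyg⟩
  have himg : ∀ (f : I) (V : (G : Scheme.{u}).Opens), V ≤ U f → G.ι ''ᵁ V ≤ Proj.basicOpen ℬ (φ f.1) := by
    rintro f V hV _ ⟨y, hy, rfl⟩
    have := hV hy
    rw [hU f] at this
    exact this
  let gA : ∀ f : I, Γ(GrTwist.twist 𝒜 n, Proj.basicOpen 𝒜 f.1) := fun f =>
    GrTw11.frac 𝒜 _ (pow_mem' f.2 a) (pow_mem' f.2 b) (by omega)
      fun _ hx => GrTw11.pow_notMem 𝒜 hx b
  let P : ∀ f : I, Γ((Scheme.Modules.pullback p).obj (GrTwist.twist 𝒜 n), U f) := fun f => M2.pullSec p _ (gA f)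
  let Q : ∀ f : I, Γ((GrTwist.twist ℬ n).restrict G.ι, U f) := fun f =>
    GrTw11.frac ℬ (G.ι ''ᵁ U f) (pow_mem' (φ.map_mem f.2) a) (pow_mem' (φ.map_mem f.2) b) (by omega)
      fun _ hx => GrTw11.pow_notMem ℬ (himg f _ le_rfl hx) b
  have hP : ∀ f : I, Twist.IsGen _ (U f) (P f) := fun f => by
    refine Twist.IsGen.pullback p fun V hV => ?_
    exact GrTw11.bijective_smul_of_inverse (gA f : GrTw11.Sec (𝒜 := 𝒜) n _)
      (GrTw11.frac 𝒜 _ (pow_mem' f.2 b) (pow_mem' f.2 a) (by omega)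
        fun _ hx => GrTw11.pow_notMem 𝒜 hx a) (fun x hx => GrTw11.mk_mul_mk_eq_one 𝒜 _ _) V hV
  have hQ : ∀ f : I, Twist.IsGen _ (U f) (Q f) := fun f V hV => by
    exact (GrTw11.bijective_smul_of_inverse (Q f : GrTw11.Sec (𝒜 := ℬ) n _)
      (GrTw11.frac ℬ (G.ι ''ᵁ U f) (pow_mem' (φ.map_mem f.2) b) (pow_mem' (φ.map_mem f.2) a) (by omega)
        fun _ hx => GrTw11.pow_notMem ℬ (himg f _ le_rfl hx) a) (fun x hx => GrTw11.mk_mul_mk_eq_one ℬ _ _)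
      (G.ι ''ᵁ V) (G.ι.image_mono hV)).comp
      ((ConcreteCategory.isIso_iff_bijective (G.ι.appIso V).inv).1 inferInstance)
  have hst : Twist.SameTransition U P Q := by
    intro f g V hf hg t ht
    let h := f.1 * g.1
    have hh : h ∈ 𝒜 2 := SetLike.mul_mem_graded f.2 g.2
    let W := Proj.basicOpen 𝒜 h
    have hWf : W ≤ Proj.basicOpen 𝒜 f.1 := Proj.basicOpen_mono 𝒜 _ _ (dvd_mul_right _ _)
    have hWg : W ≤ Proj.basicOpen 𝒜 g.1 := Proj.basicOpen_mono 𝒜 _ _ (dvd_mul_left _ _)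
    have hVW : V ≤ p ⁻¹ᵁ W := fun y hy h' =>
      ((p y).isPrime.mem_or_mem h').elim (hf hy) (hg hy)
    let N := g.1 ^ (2 * a) * f.1 ^ (2 * b)
    have hN : N ∈ 𝒜 ((a + b) • 2) := by
      have := SetLike.mul_mem_graded (pow_mem' g.2 (2 * a)) (pow_mem' f.2 (2 * b))
      rw [smul_eq_mul, show (a + b) * 2 = 2 * a + 2 * b by ring]
      exact this
    let c := Proj.awayToSection 𝒜 h (Away.mk 𝒜 hh (a + b) N hN)
    have e1 : M1.mres (GrTwist.twist 𝒜 n) hWg (gA g) = c • M1.mres (GrTwist.twist 𝒜 n) hWf (gA f) := by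
      refine GrTw11.sec_ext (n := n) fun x hx => ?_
      rw [GrTw11.val_mres, GrTw11.val_smul, GrTw11.val_mres,
        GrTw11.valO_awayToSection 𝒜 hh hN x hx (GrTw11.pow_notMem 𝒜 hx _)]
      refine Eq.trans ?_ (Localization.mk_mul _ _ _ _).symm
      exact (GrTw11.mk_eq_iff 𝒜 _ _).2 ⟨1, GrTw11.one_notMem_prime 𝒜 x, by simp only [N, h]; ring⟩
    have e2 : M1.mres _ hg (P g) = p.appLE W V hVW c • M1.mres _ hf (P f) := by
      have h2 := congrArg (fun s => M1.mres _ hVW (M2.pullSec p (GrTwist.twist 𝒜 n) s)) e1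
      simp only [M2.pullSec_smul, PicDesc21.pullSec_mres, M1.mres_smul, M1.mres_mres] at h2
      exact h2
    have htc : t = p.appLE W V hVW c := (hP f V hf).1 (ht.symm.trans e2)
    have hV2 : V ≤ G.ι ⁻¹ᵁ Proj.basicOpen ℬ (φ h) := hVW.trans (EGA2.pcone_preimage φ hp Nat.two_pos hh).le
    have e3 : p.appLE W V hVW c = G.ι.appLE (Proj.basicOpen ℬ (φ h)) V hV2
        (Proj.awayToSection ℬ (φ h) (Away.map φ h (Away.mk 𝒜 hh (a + b) N hN))) := by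
      rw [← PicDesc21.appLE_res p (EGA2.pcone_preimage φ hp Nat.two_pos hh).ge hV2 c, app_eq_away_map hp Nat.two_pos hh,
        PicDesc21.appLE_res]
    rw [htc, e3]
    refine GrTw11.sec_ext (n := n) fun x hx => ?_
    refine Eq.trans ?_ (GrTw11.val_smul _ _ x hx).symm
    have hid : ∀ z, (G.ι.appIso V).inv z = z := fun z => by rw [Scheme.Opens.ι_appIso]; rfl
    refine Eq.trans ?_ (congrArg (fun z => GrTw11.valO z x hx * _) (hid _)).symm
    rw [Away.map_mk, Scheme.Opens.ι_appLE]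
    have hxh : (φ f.1 * φ g.1) ∉ x.asHomogeneousIdeal := fun h' =>
      (x.isPrime.mem_or_mem h').elim (himg f V hf hx) (himg g V hg hx)
    show Localization.mk (φ g.1 ^ a) _ = Localization.mk (φ N) (⟨φ h ^ (a + b), _⟩ : x.asHomogeneousIdeal.toIdeal.primeCompl) *
      Localization.mk (φ f.1 ^ a) _
    rw [Localization.mk_mul]
    exact (GrTw11.mk_eq_iff ℬ _ _).2 ⟨1, GrTw11.one_notMem_prime ℬ x, by simp only [N, h, map_mul, map_pow]; simp only [show ∀ z, φ.toRingHom z = φ z from fun _ => rfl]; ring⟩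
  obtain ⟨τ, -⟩ := Twist.exists_iso_of_gen U hcov P Q hP hQ hst
  exact ⟨τ⟩

end Groth.Agent.PullBC11
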