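import Groth.Agent.Lib.PullBC11.Twist
import Groth.Agent.Lib.PullBC11.Transfer
import Groth.Agent.Lib.RelProj11.RelTildeMain
import Mathlib.Algebra.Category.Ring.Constructions

/-!
Inverse images of the twisting sheaves of a relative `Proj` along a change of base.
-/

set_option autoImplicit false
set_option linter.style.haveILetI false

universe u

open CategoryTheory Limits AlgebraicGeometry TopologicalSpace Opposite
open scoped HomogeneousIdeal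

namespace Groth.Agent.PullBC11

section graded

variable {A B C σ τ υ : Type u} [CommRing A] [SetLike σ A] [AddSubgroupClass σ A]
  [CommRing B] [SetLike τ B] [AddSubgroupClass τ B] [CommRing C] [SetLike υ C] [AddSubgroupClass υ C]
  {𝒜 : ℕ → σ} {ℬ : ℕ → τ} {𝒞 : ℕ → υ} [GradedRing 𝒜] [GradedRing ℬ] [GradedRing 𝒞]

theorem irrelevant_comp (f : 𝒜 →+*ᵍ ℬ) (hf : ℬ₊ ≤ (𝒜₊).map f) (g : ℬ →+*ᵍ 𝒞) (hg : 𝒞₊ ≤ (ℬ₊).map g) :
    𝒞₊ ≤ (𝒜₊).map (g.comp f) :=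
  fun x hx => (HomogeneousIdeal.map_map f g).le (Ideal.map_mono (f := g) (fun a ha => hf ha) (hg hx))

variable {B' τ' : Type u} [CommRing B'] [SetLike τ' B'] [AddSubgroupClass τ' B'] {ℬ' : ℕ → τ'} [GradedRing ℬ']

/-- Two factorisations of one graded homomorphism pull back values alike. -/
theorem locMap_locMap_eq {n : ℤ} (f : 𝒜 →+*ᵍ ℬ) (hf : ℬ₊ ≤ (𝒜₊).map f) (g : ℬ →+*ᵍ 𝒞) (hg : 𝒞₊ ≤ (ℬ₊).map g)
    (f' : 𝒜 →+*ᵍ ℬ') (hf' : ℬ'₊ ≤ (𝒜₊).map f') (g' : ℬ' →+*ᵍ 𝒞) (hg' : 𝒞₊ ≤ (ℬ'₊).map g')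
    (e : ∀ a, g (f a) = g' (f' a)) {W : (Proj 𝒜).Opens} (t : GrTw11.Sec (𝒜 := 𝒜) n W) (y : ProjectiveSpectrum 𝒞)
    (h : ProjectiveSpectrum.comap f hf (ProjectiveSpectrum.comap g hg y) ∈ W)
    (h' : ProjectiveSpectrum.comap f' hf' (ProjectiveSpectrum.comap g' hg' y) ∈ W) :
    GrTwist.locMap g hg y (GrTwist.locMap f hf _ (GrTw11.val t _ h)) =
      GrTwist.locMap g' hg' y (GrTwist.locMap f' hf' _ (GrTw11.val t _ h')) := by
  refine ((GrTw11.locMap_comp f hf g hg (irrelevant_comp f hf g hg) y _).trans ?_).trans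
    (GrTw11.locMap_comp f' hf' g' hg' (irrelevant_comp f' hf' g' hg') y _).symm
  have key : ∀ (χ χ' : 𝒜 →+*ᵍ 𝒞) (hχ : 𝒞₊ ≤ (𝒜₊).map χ) (hχ' : 𝒞₊ ≤ (𝒜₊).map χ') (_ : χ = χ')
      (hm : ProjectiveSpectrum.comap χ hχ y ∈ W) (hm' : ProjectiveSpectrum.comap χ' hχ' y ∈ W),
      GrTwist.locMap χ hχ y (GrTw11.val t _ hm) = GrTwist.locMap χ' hχ' y (GrTw11.val t _ hm') := by
    rintro χ _ _ _ rfl _ _
    rfl
  exact key (g.comp f) (g'.comp f') _ _ (DFunLike.ext _ _ e) h h'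

end graded

variable {Y Y' P P' : Scheme.{u}} {ψ : Y' ⟶ Y} {𝒮 : RelProj.QCGrAlg Y} {𝒮' : RelProj.QCGrAlg Y'}
  {u : 𝒮.presheaf ⟶ ψ.base _* 𝒮'.presheaf}
  {φ : ∀ (U : Y.Opens) (hU : IsAffineOpen U) (U' : Y'.Opens) (hU' : IsAffineOpen U') (_ : U' ≤ ψ ⁻¹ᵁ U),
      𝒮.deg U hU →+*ᵍ 𝒮'.deg U' hU'}
  (hφ : ∀ (U : Y.Opens) (hU : IsAffineOpen U) (U' : Y'.Opens) (hU' : IsAffineOpen U') (hle : U' ≤ ψ ⁻¹ᵁ U),
      (φ U hU U' hU' hle).toRingHom =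
        ((u.app (op U) : 𝒮.presheaf.obj (op U) ⟶ 𝒮'.presheaf.obj (op (ψ ⁻¹ᵁ U))) ≫
          𝒮'.presheaf.map (homOfLE hle).op).hom)
  {hirr : ∀ (U : Y.Opens) (hU : IsAffineOpen U) (U' : Y'.Opens) (hU' : IsAffineOpen U') (hle : U' ≤ ψ ⁻¹ᵁ U),
      (𝒮'.deg U' hU')₊ ≤ ((𝒮.deg U hU)₊).map (φ U hU U' hU' hle)}
  {p : P ⟶ Y}
  {chart : ∀ (U : Y.Opens) (hU : IsAffineOpen U), (((p ⁻¹ᵁ U : P.Opens) : Scheme.{u}) ≅ Proj (𝒮.deg U hU))}
  {p' : P' ⟶ Y'}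
  {chart' : ∀ (U' : Y'.Opens) (hU' : IsAffineOpen U'), (((p' ⁻¹ᵁ U' : P'.Opens) : Scheme.{u}) ≅ Proj (𝒮'.deg U' hU'))}
  {g : P' ⟶ P}
  (hg : ∀ (U : Y.Opens) (hU : IsAffineOpen U) (U' : Y'.Opens) (hU' : IsAffineOpen U') (hle : U' ≤ ψ ⁻¹ᵁ U),
      (p' ⁻¹ᵁ U').ι ≫ g =
        (chart' U' hU').hom ≫ Proj.map (φ U hU U' hU' hle) (hirr U hU U' hU' hle) ≫ RelProj.emb p chart U hU)

include hφ in
theorem res_phi {U D : Y.Opens} (hU : IsAffineOpen U) (hD : IsAffineOpen D) {U' D' : Y'.Opens}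
    (hU' : IsAffineOpen U') (hD' : IsAffineOpen D') (hle : U' ≤ ψ ⁻¹ᵁ U) (hle' : D' ≤ ψ ⁻¹ᵁ D) (i : D ≤ U)
    (i' : D' ≤ U') (a : 𝒮.presheaf.obj (op U)) :
    𝒮'.res hU' hD' i' (φ U hU U' hU' hle a) = φ D hD D' hD' hle' (𝒮.res hU hD i a) := by
  have e1 : φ U hU U' hU' hle a = 𝒮'.presheaf.map (homOfLE hle).op (u.app (op U) a) :=
    congr($(hφ U hU U' hU' hle) a)
  have e2 : φ D hD D' hD' hle' (𝒮.res hU hD i a) =
      𝒮'.presheaf.map (homOfLE hle').op (u.app (op D) (𝒮.presheaf.map (homOfLE i).op a)) :=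
    congr($(hφ D hD D' hD' hle') (𝒮.res hU hD i a))
  rw [e1, e2]
  show 𝒮'.presheaf.map (homOfLE i').op _ = _
  rw [← ConcreteCategory.comp_apply (𝒮.presheaf.map (homOfLE i).op) (u.app (op D)), u.naturality]
  show 𝒮'.presheaf.map _ _ = 𝒮'.presheaf.map _ (𝒮'.presheaf.map _ (u.app (op U) a))
  rw [← ConcreteCategory.comp_apply (𝒮'.presheaf.map (homOfLE hle).op),
    ← ConcreteCategory.comp_apply (𝒮'.presheaf.map _) (𝒮'.presheaf.map (homOfLE hle').op),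
    ← Functor.map_comp, ← Functor.map_comp]
  rfl

include hg in
theorem square (U : Y.Opens) (hU : IsAffineOpen U) (U' : Y'.Opens) (hU' : IsAffineOpen U') (hle : U' ≤ ψ ⁻¹ᵁ U) :
    RelProj.emb p' chart' U' hU' ≫ g =
      Proj.map (φ U hU U' hU' hle) (hirr U hU U' hU' hle) ≫ RelProj.emb p chart U hU := by
  rw [RelProj.emb, Category.assoc, hg U hU U' hU' hle, Iso.inv_hom_id_assoc]

variable (hP : RelProj.IsRelProj 𝒮 p chart) (hP' : RelProj.IsRelProj 𝒮' p' chart')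
  {n : ℤ} {L : P.Modules}
  {lam : ∀ (U : Y.Opens) (hU : IsAffineOpen U),
      L ⟶ (Scheme.Modules.pushforward (RelProj.emb p chart U hU)).obj (GrTwist.twist (𝒮.deg U hU) n)}
  (hL : RelProj.IsRelTwist 𝒮 p chart n L lam) {L' : P'.Modules}
  {lam' : ∀ (U' : Y'.Opens) (hU' : IsAffineOpen U'),
      L' ⟶ (Scheme.Modules.pushforward (RelProj.emb p' chart' U' hU')).obj (GrTwist.twist (𝒮'.deg U' hU') n)}
  (hL' : RelProj.IsRelTwist 𝒮' p' chart' n L' lam')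

include hg in
theorem comap_mem_sq {U : Y.Opens} {hU : IsAffineOpen U} {U' : Y'.Opens} {hU' : IsAffineOpen U'}
    (hle : U' ≤ ψ ⁻¹ᵁ U) {W : P.Opens} {y : Proj (𝒮'.deg U' hU')}
    (hy : g (RelProj.emb p' chart' U' hU' y) ∈ W) :
    ProjectiveSpectrum.comap (φ U hU U' hU' hle) (hirr U hU U' hU' hle) y ∈ RelProj.emb p chart U hU ⁻¹ᵁ W := by
  have h1 := congr($(square hg U hU U' hU' hle) y)
  rw [Scheme.Hom.comp_apply, Scheme.Hom.comp_apply] at h1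
  show RelProj.emb p chart U hU (Proj.map _ (hirr U hU U' hU' hle) y) ∈ W
  rw [← h1]
  exact hy

variable (lam lam') in
/-- `t` is the image of `s`. -/
def Rel {W : P.Opens} (s : Γ(L, W)) {W' : P'.Opens} (t : Γ(L', W')) : Prop :=
  ∀ (U : Y.Opens) (hU : IsAffineOpen U) (U' : Y'.Opens) (hU' : IsAffineOpen U') (hle : U' ≤ ψ ⁻¹ᵁ U)
    (y : ProjectiveSpectrum (𝒮'.deg U' hU')) (hy : y ∈ RelProj.emb p' chart' U' hU' ⁻¹ᵁ W')
    (hy' : ProjectiveSpectrum.comap (φ U hU U' hU' hle) (hirr U hU U' hU' hle) y ∈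
      RelProj.emb p chart U hU ⁻¹ᵁ W),
    GrTw11.val (n := n) (U := RelProj.emb p' chart' U' hU' ⁻¹ᵁ W') ((lam' U' hU').app W' t) y hy =
      GrTwist.locMap (φ U hU U' hU' hle) (hirr U hU U' hU' hle) y
        (GrTw11.val (n := n) (U := RelProj.emb p chart U hU ⁻¹ᵁ W) ((lam U hU).app W s) _ hy')

theorem exists_pair (x : P') : ∃ (U : Y.Opens) (_ : IsAffineOpen U) (U' : Y'.Opens) (_ : IsAffineOpen U'),
    U' ≤ ψ ⁻¹ᵁ U ∧ x ∈ p' ⁻¹ᵁ U' := by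
  obtain ⟨U, hU, hxU, -⟩ := exists_isAffineOpen_mem_and_subset (U := (⊤ : Y.Opens)) (x := ψ (p' x)) trivial
  obtain ⟨U', hU', hxU', hle⟩ := exists_isAffineOpen_mem_and_subset (U := ψ ⁻¹ᵁ U) (x := p' x) hxU
  exact ⟨U, hU, U', hU', hle, hxU'⟩

include hg hL' in
theorem rel_unique {W : P.Opens} (s : Γ(L, W)) {W' : P'.Opens} (hW : W' ≤ g ⁻¹ᵁ W) {t t' : Γ(L', W')}
    (h : Rel (hirr := hirr) lam lam' s t) (h' : Rel (hirr := hirr) lam lam' s t') : t = t' := by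
  choose U hU U' hU' hle hx using fun x : W' => exists_pair (ψ := ψ) (p' := p') (x : P')
  refine M1.modules_eq_of_locally_eq L' W' (fun x => W' ⊓ p' ⁻¹ᵁ U' x) (fun x => inf_le_left)
    (fun x hx' => Opens.mem_iSup.2 ⟨⟨x, hx'⟩, hx', hx ⟨x, hx'⟩⟩) _ _ fun x => ?_
  refine (hL'.bijective (U' x) (hU' x) _ inf_le_right).1 (GrTw11.sec_ext (n := n) fun y hy => ?_)
  have hy' := comap_mem_sq hg (hU := hU x) (hle x) (W := W) (hW hy.1)
  rw [M1.app_mres, M1.app_mres]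
  exact (h (U x) (hU x) _ (hU' x) (hle x) y hy.1 hy').trans (h' (U x) (hU x) _ (hU' x) (hle x) y hy.1 hy').symm

include hφ hP hP' hg hL hL' in
theorem rel_overlap {W : P.Opens} (s : Γ(L, W))
    {U₁ : Y.Opens} (hU₁ : IsAffineOpen U₁) {U₁' : Y'.Opens} (hU₁' : IsAffineOpen U₁') (hle₁ : U₁' ≤ ψ ⁻¹ᵁ U₁)
    {U₂ : Y.Opens} (hU₂ : IsAffineOpen U₂) {U₂' : Y'.Opens} (hU₂' : IsAffineOpen U₂') (hle₂ : U₂' ≤ ψ ⁻¹ᵁ U₂)
    {O : P'.Opens} (hO : O ≤ g ⁻¹ᵁ W) (hO₁ : O ≤ p' ⁻¹ᵁ U₁') (hO₂ : O ≤ p' ⁻¹ᵁ U₂') (t₁ t₂ : Γ(L', O))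
    (h₁ : ∀ y hy hy', GrTw11.val (n := n) (U := RelProj.emb p' chart' U₁' hU₁' ⁻¹ᵁ O)
        ((lam' U₁' hU₁').app O t₁) y hy =
      GrTwist.locMap (φ U₁ hU₁ U₁' hU₁' hle₁) (hirr U₁ hU₁ U₁' hU₁' hle₁) y
        (GrTw11.val (n := n) (U := RelProj.emb p chart U₁ hU₁ ⁻¹ᵁ W) ((lam U₁ hU₁).app W s) _ hy'))
    (h₂ : ∀ y hy hy', GrTw11.val (n := n) (U := RelProj.emb p' chart' U₂' hU₂' ⁻¹ᵁ O)
        ((lam' U₂' hU₂').app O t₂) y hy =
      GrTwist.locMap (φ U₂ hU₂ U₂' hU₂' hle₂) (hirr U₂ hU₂ U₂' hU₂' hle₂) y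
        (GrTw11.val (n := n) (U := RelProj.emb p chart U₂ hU₂ ⁻¹ᵁ W) ((lam U₂ hU₂).app W s) _ hy')) :
    t₁ = t₂ := by
  have key : ∀ x : O, ∃ (D' : Y'.Opens) (hD' : IsAffineOpen D'), (x : P') ∈ p' ⁻¹ᵁ D' ∧
      (lam' D' hD').app (O ⊓ p' ⁻¹ᵁ D') (M1.mres L' inf_le_left t₁) =
        (lam' D' hD').app (O ⊓ p' ⁻¹ᵁ D') (M1.mres L' inf_le_left t₂) := by
    intro x
    obtain ⟨D, hD, b₁, b₂, hxD⟩ := RelProj11.exists_common_basic hU₁ hU₂ (ψ (p' x))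
      ⟨hle₁ (hO₁ x.2), hle₂ (hO₂ x.2)⟩
    obtain ⟨E, hE, c₁, c₂, hxE⟩ := RelProj11.exists_common_basic hU₁' hU₂' (p' x) ⟨hO₁ x.2, hO₂ x.2⟩
    obtain ⟨r, hr, hxr⟩ := hE.exists_basicOpen_le (V := ψ ⁻¹ᵁ D) ⟨p' x, hxD⟩ hxE
    have hD' := hE.basicOpen r
    have d₁ := c₁.trans hU₁' (⟨r, rfl⟩ : RelProj11.IsBasic E (Y'.basicOpen r))
    have d₂ := c₂.trans hU₂' (⟨r, rfl⟩ : RelProj11.IsBasic E (Y'.basicOpen r))
    refine ⟨Y'.basicOpen r, hD', hxr, GrTw11.sec_ext (n := n) fun y hy => ?_⟩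
    have hyD := comap_mem_sq hg (hU := hD) hr (W := W) (hO hy.1)
    have side : ∀ {U : Y.Opens} (hU : IsAffineOpen U) {U' : Y'.Opens} (hU' : IsAffineOpen U') (hle : U' ≤ ψ ⁻¹ᵁ U)
        (t : Γ(L', O)) (_ : ∀ y hy hy', GrTw11.val (n := n) (U := RelProj.emb p' chart' U' hU' ⁻¹ᵁ O)
          ((lam' U' hU').app O t) y hy =
          GrTwist.locMap (φ U hU U' hU' hle) (hirr U hU U' hU' hle) y
            (GrTw11.val (n := n) (U := RelProj.emb p chart U hU ⁻¹ᵁ W) ((lam U hU).app W s) _ hy'))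
        (b : RelProj11.IsBasic U D) (d : RelProj11.IsBasic U' (Y'.basicOpen r)),
        GrTw11.val (n := n) (U := RelProj.emb p' chart' (Y'.basicOpen r) hD' ⁻¹ᵁ (O ⊓ p' ⁻¹ᵁ Y'.basicOpen r))
          ((lam' _ hD').app (O ⊓ p' ⁻¹ᵁ Y'.basicOpen r) (M1.mres L' inf_le_left t)) y hy =
        GrTwist.locMap (φ D hD (Y'.basicOpen r) hD' hr) (hirr D hD (Y'.basicOpen r) hD' hr) y
          (GrTw11.val (n := n) (U := RelProj.emb p chart D hD ⁻¹ᵁ W) ((lam D hD).app W s) _ hyD) := by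
      intro U hU U' hU' hle t h b d
      obtain ⟨a, rfl⟩ := b
      obtain ⟨a', ha'⟩ := id d
      have hy1 := RelProj11.comap_mem hU' hD' d (W := O) hy.1 hP'
      have e1 : GrTw11.val (n := n) (U := RelProj.emb p' chart' (Y'.basicOpen r) hD' ⁻¹ᵁ O)
            ((lam' _ hD').app O t) y hy.1 =
          GrTwist.locMap (𝒮'.res hU' hD' d.le) (d.irrelevant hU' hD') y
            (GrTw11.val (n := n) (U := RelProj.emb p' chart' U' hU' ⁻¹ᵁ O) ((lam' U' hU').app O t) _ hy1) :=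
        (congr($(congrArg (fun f => Scheme.Modules.Hom.app f O) (RelProj11.lam_resMap hP' hL' hU' hD' d)) t) ▸
          RelProj11.resMap_val hP' n hU' hD' d O ((lam' U' hU').app O t) y hy.1)
      rw [M1.app_mres]
      refine e1.trans ?_
      refine (congrArg _ (h _ hy1 (comap_mem_sq hg hle (hO hy1)))).trans ?_
      refine Eq.trans ?_ (congrArg _
        (hL.compat U hU a W s _ hyD (RelProj11.comap_mem hU (hU.basicOpen a) ⟨a, rfl⟩ hyD hP))).symm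
      exact locMap_locMap_eq _ _ _ _ _ _ _ _ (res_phi hφ hU _ hU' hD' hle hr _ d.le) _ y _ _
    exact (side hU₁ hU₁' hle₁ t₁ h₁ b₁ d₁).trans (side hU₂ hU₂' hle₂ t₂ h₂ b₂ d₂).symm
  choose D' hD' hx he using key
  refine M1.modules_eq_of_locally_eq L' O (fun x => O ⊓ p' ⁻¹ᵁ D' x) (fun x => inf_le_left)
    (fun x hx' => Opens.mem_iSup.2 ⟨⟨x, hx'⟩, hx', hx ⟨x, hx'⟩⟩) _ _ fun x => ?_
  exact (hL'.bijective (D' x) (hD' x) _ inf_le_right).1 (he x)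

include hφ hP hP' hg hL hL' in
theorem exists_rel {W : P.Opens} (s : Γ(L, W)) : ∃ t : Γ(L', g ⁻¹ᵁ W), Rel (hirr := hirr) lam lam' s t := by
  let ι := {q : Y.affineOpens × Y'.affineOpens // q.2.1 ≤ ψ ⁻¹ᵁ q.1.1}
  let O : ι → P'.Opens := fun q => g ⁻¹ᵁ W ⊓ p' ⁻¹ᵁ q.1.2.1
  have hsq : ∀ q : ι, RelProj.emb p' chart' q.1.2.1 q.1.2.2 ⁻¹ᵁ O q ≤
      Proj.map (φ q.1.1.1 q.1.1.2 q.1.2.1 q.1.2.2 q.2) (hirr q.1.1.1 q.1.1.2 q.1.2.1 q.1.2.2 q.2) ⁻¹ᵁ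
        (RelProj.emb p chart q.1.1.1 q.1.1.2 ⁻¹ᵁ W) := fun q y hy => comap_mem_sq hg q.2 hy.1
  choose τ hτ using fun q : ι => (hL'.bijective q.1.2.1 q.1.2.2 (O q) inf_le_right).2
    (M1.mres (GrTwist.twist (𝒮'.deg q.1.2.1 q.1.2.2) n) (hsq q)
      ((GrTwist.comap (φ q.1.1.1 q.1.1.2 q.1.2.1 q.1.2.2 q.2) (hirr q.1.1.1 q.1.1.2 q.1.2.1 q.1.2.2 q.2) n).app
        (RelProj.emb p chart q.1.1.1 q.1.1.2 ⁻¹ᵁ W) ((lam q.1.1.1 q.1.1.2).app W s)))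
  have hval : ∀ (q : ι) (A : P'.Opens) (hA : A ≤ O q) (y : ProjectiveSpectrum (𝒮'.deg q.1.2.1 q.1.2.2))
      (hy : y ∈ RelProj.emb p' chart' q.1.2.1 q.1.2.2 ⁻¹ᵁ A) (hy' : _),
      GrTw11.val (n := n) (U := RelProj.emb p' chart' q.1.2.1 q.1.2.2 ⁻¹ᵁ A)
          ((lam' q.1.2.1 q.1.2.2).app A (M1.mres L' hA (τ q))) y hy =
        GrTwist.locMap (φ q.1.1.1 q.1.1.2 q.1.2.1 q.1.2.2 q.2) (hirr q.1.1.1 q.1.1.2 q.1.2.1 q.1.2.2 q.2) y
          (GrTw11.val (n := n) (U := RelProj.emb p chart q.1.1.1 q.1.1.2 ⁻¹ᵁ W)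
            ((lam q.1.1.1 q.1.1.2).app W s) _ hy') := fun q A hA y hy hy' => by
    rw [M1.app_mres, hτ q]
    rfl
  have hcov : g ⁻¹ᵁ W ≤ iSup O := fun x hx => by
    obtain ⟨U, hU, U', hU', hle, hx'⟩ := exists_pair (ψ := ψ) (p' := p') x
    exact Opens.mem_iSup.2 ⟨⟨(⟨U, hU⟩, ⟨U', hU'⟩), hle⟩, hx, hx'⟩
  obtain ⟨t, ht, -⟩ := TopCat.Sheaf.existsUnique_gluing' ⟨L'.presheaf, L'.isSheaf⟩ O (g ⁻¹ᵁ W)
    (fun q => homOfLE inf_le_left) hcov τ fun q q' => rel_overlap hφ hg hP hP' hL hL' s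
      q.1.1.2 q.1.2.2 q.2 q'.1.1.2 q'.1.2.2 q'.2 (inf_le_left.trans inf_le_left) (inf_le_left.trans inf_le_right)
      (inf_le_right.trans inf_le_right) _ _ (hval q _ inf_le_left) (hval q' _ inf_le_right)
  refine ⟨t, fun U hU U' hU' hle y hy hy' => ?_⟩
  have hy'' : y ∈ RelProj.emb p' chart' U' hU' ⁻¹ᵁ (g ⁻¹ᵁ W ⊓ p' ⁻¹ᵁ U') := ⟨hy, ((chart' U' hU').inv y).2⟩
  refine Eq.trans ?_ (hval ⟨(⟨U, hU⟩, ⟨U', hU'⟩), hle⟩ _ le_rfl y hy'' hy')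
  rw [M1.mres_id, ← show M1.mres L' (inf_le_left : g ⁻¹ᵁ W ⊓ p' ⁻¹ᵁ U' ≤ g ⁻¹ᵁ W) t =
    τ ⟨(⟨U, hU⟩, ⟨U', hU'⟩), hle⟩ from ht ⟨(⟨U, hU⟩, ⟨U', hU'⟩), hle⟩, M1.app_mres]
  rfl

/-- The comparison map `L → g_* L'`. -/
noncomputable def compMor : L ⟶ (Scheme.Modules.pushforward g).obj L' :=
  let f := fun (W : P.Opens) (s : Γ(L, W)) => (exists_rel hφ hg hP hP' hL hL' s).choose
  have hf : ∀ (W : P.Opens) (s : Γ(L, W)), Rel (hirr := hirr) lam lam' s (f W s) := fun W s =>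
    (exists_rel hφ hg hP hP' hL hL' s).choose_spec
  ⟨PresheafOfModules.homMk
    { app := fun W => AddCommGrpCat.ofHom (AddMonoidHom.mk' (f W.unop) fun s s' =>
        rel_unique hg hL' (s + s') le_rfl (hf _ _) fun U hU U' hU' hle y hy hy' => by
          refine (congrArg (fun t => GrTw11.val (n := n) (U := RelProj.emb p' chart' U' hU' ⁻¹ᵁ (g ⁻¹ᵁ W.unop)) t y hy)
            (((lam' U' hU').app (g ⁻¹ᵁ W.unop)).hom.map_add _ _)).trans ?_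
          refine Eq.trans ?_ (congrArg (fun t => GrTwist.locMap (φ U hU U' hU' hle) (hirr U hU U' hU' hle) y
            (GrTw11.val (n := n) (U := RelProj.emb p chart U hU ⁻¹ᵁ W.unop) t _ hy'))
            (((lam U hU).app W.unop).hom.map_add s s')).symm
          refine Eq.trans (congrArg₂ (· + ·) (hf _ s U hU U' hU' hle y hy hy') (hf _ s' U hU U' hU' hle y hy hy')) ?_
          exact (map_add (GrTwist.locMap (φ U hU U' hU' hle) (hirr U hU U' hU' hle) y) _ _).symm)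
      naturality := fun W W' i => by
        ext s
        exact rel_unique hg hL' (L.presheaf.map i s) le_rfl (hf _ _) fun U hU U' hU' hle y hy hy' => by
          have h0 := hf _ s U hU U' hU' hle y (leOfHom i.unop (hy : g _ ∈ W'.unop)) (leOfHom i.unop hy')
          refine Eq.trans ?_ (h0.trans (congrArg _ ?_))
          · exact congrArg (fun t => GrTw11.val (n := n)
              (U := RelProj.emb p' chart' U' hU' ⁻¹ᵁ (g ⁻¹ᵁ W'.unop)) t y hy)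
              (M1.app_mres (lam' U' hU') (fun z hz => leOfHom i.unop hz) (f W.unop s))
          · exact (congrArg (fun t => GrTw11.val (n := n) (U := RelProj.emb p chart U hU ⁻¹ᵁ W'.unop) t _ hy')
              (M1.app_mres (lam U hU) (leOfHom i.unop) s)).symm }
    fun W r s => rel_unique hg hL' (r • s) le_rfl (hf _ _) fun U hU U' hU' hle y hy hy' => by
      have h0 := hf _ s U hU U' hU' hle y hy hy'
      refine (congrArg (fun t => GrTw11.val (n := n) (U := RelProj.emb p' chart' U' hU' ⁻¹ᵁ (g ⁻¹ᵁ W.unop)) t y hy)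
        (Scheme.Modules.Hom.app_smul (lam' U' hU') ((g.app W.unop) r) (f W.unop s))).trans ?_
      refine (GrTw11.val_smul _ _ y hy).trans ?_
      refine Eq.trans ?_ (congrArg (GrTwist.locMap (φ U hU U' hU' hle) (hirr U hU U' hU' hle) y)
        ((congrArg (fun t => GrTw11.val (n := n) (U := RelProj.emb p chart U hU ⁻¹ᵁ W.unop) t _ hy')
          (Scheme.Modules.Hom.app_smul (lam U hU) r s)).trans (GrTw11.val_smul _ _ _ hy'))).symm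
      rw [map_mul]
      refine congrArg₂ (· * ·) ?_ h0
      exact (congrArg (fun c => GrTw11.valO c y hy) (app_appLE_self (square hg U hU U' hU' hle) r)).trans
        (valO_appLE_map (φ U hU U' hU' hle) (hirr U hU U' hU' hle) _ _ y hy)⟩

theorem compMor_rel {W : P.Opens} (s : Γ(L, W)) :
    Rel (hirr := hirr) lam lam' s ((compMor hφ hg hP hP' hL hL').app W s) :=
  (exists_rel hφ hg hP hP' hL hL' s).choose_spec

variable (hu : 𝒮.str ≫ u = ψ.c ≫ (TopCat.Presheaf.pushforward CommRingCat.{u} ψ.base).map 𝒮'.str)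

include hφ hP hP' hg hL hL' in
theorem nonempty_pullback_relTwist_baseChange
    (hpo : ∀ (U : Y.Opens) (hU : IsAffineOpen U) (U' : Y'.Opens) (hU' : IsAffineOpen U') (hle : U' ≤ ψ ⁻¹ᵁ U),
      IsPushout (ψ.appLE U U' hle) (𝒮.str.app (op U)) (𝒮'.str.app (op U'))
        ((u.app (op U) : 𝒮.presheaf.obj (op U) ⟶ 𝒮'.presheaf.obj (op (ψ ⁻¹ᵁ U))) ≫
          𝒮'.presheaf.map (homOfLE hle).op)) :
    Nonempty ((Scheme.Modules.pullback g).obj L ≅ L') := by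
  have key : IsIso (((Scheme.Modules.pullbackPushforwardAdjunction g).homEquiv L L').symm
      (compMor hφ hg hP hP' hL hL')) := by
    refine isIso_of_isBC _ (RelProj11.isQCoh_relTwist hL) (RelProj11.isQCoh_relTwist hL') fun z => ?_
    obtain ⟨U, hU, U', hU', hle, hz⟩ := exists_pair (ψ := ψ) (p' := p') z
    obtain ⟨y, rfl⟩ : ∃ y, RelProj.emb p' chart' U' hU' y = z := by
      refine ⟨(chart' U' hU').hom ⟨z, hz⟩, ?_⟩
      rw [RelProj.emb, ← Scheme.Hom.comp_apply, Iso.hom_inv_id_assoc]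
      rfl
    let Φ := φ U hU U' hU' hle
    let hΦ := hirr U hU U' hU' hle
    have hcov : ProjectiveSpectrum.comap Φ hΦ y ∈
        (⨆ h : {h : 𝒮.presheaf.obj (op U) // ∃ k : ℕ, 0 < k ∧ h ∈ 𝒮.deg U hU k},
          Proj.basicOpen (𝒮.deg U hU) h.1) := by
      rw [RelProj11.iSup_basicOpen_pos (𝒮.deg U hU)]; trivial
    obtain ⟨⟨h, d, hd, hh⟩, hyh⟩ := TopologicalSpace.Opens.mem_iSup.1 hcov
    let U₁ := Proj.basicOpen (𝒮.deg U hU) h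
    let V₁ := Proj.basicOpen (𝒮'.deg U' hU') (Φ h)
    have sq := square hg U hU U' hU' hle
    have hle₁ : RelProj.emb p' chart' U' hU' ''ᵁ V₁ ≤ g ⁻¹ᵁ (RelProj.emb p chart U hU ''ᵁ U₁) := by
      rintro _ ⟨w, hw, rfl⟩
      refine ⟨Proj.map Φ hΦ w, hw, ?_⟩
      have h1 := congr($sq w)
      rw [Scheme.Hom.comp_apply, Scheme.Hom.comp_apply] at h1
      exact h1.symm
    refine ⟨_, (Proj.isAffineOpen_basicOpen (𝒮.deg U hU) h hh hd).image_of_isOpenImmersion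
        (RelProj.emb p chart U hU), _,
      (Proj.isAffineOpen_basicOpen (𝒮'.deg U' hU') (Φ h) (Φ.map_mem hh) hd).image_of_isOpenImmersion
        (RelProj.emb p' chart' U' hU'), hle₁, ⟨y, hyh, rfl⟩, ?_⟩
    refine isBC_transfer sq _ (GrTwist.comap Φ hΦ n) (lam U hU) (lam' U' hU') hle₁
      (Scheme.Hom.image_le_opensRange _ _) (Scheme.Hom.image_le_opensRange _ _)
      (hL.bijective U hU _ (RelProj11.image_emb_le _)) (hL'.bijective U' hU' _ (RelProj11.image_emb_le _))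
      (fun s => GrTw11.sec_ext (n := n) fun w hw => ?_) ?_
    · rw [M1.app_mres]
      exact compMor_rel hφ hg hP hP' hL hL' s U hU U' hU' hle w (hle₁ hw) _
    · letI : Algebra Γ(Y, U) Γ(Y', U') := (ψ.appLE U U' hle).hom.toAlgebra
      letI : Algebra Γ(Y, U) (𝒮.presheaf.obj (op U)) := (𝒮.str.app (op U)).hom.toAlgebra
      letI : Algebra Γ(Y', U') (𝒮'.presheaf.obj (op U')) := (𝒮'.str.app (op U')).hom.toAlgebra
      letI : Algebra Γ(Y, U) (𝒮'.presheaf.obj (op U')) :=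
        ((𝒮'.str.app (op U')).hom.comp (ψ.appLE U U' hle).hom).toAlgebra
      letI : Algebra (𝒮.presheaf.obj (op U)) (𝒮'.presheaf.obj (op U')) :=
        ((u.app (op U) : 𝒮.presheaf.obj (op U) ⟶ 𝒮'.presheaf.obj (op (ψ ⁻¹ᵁ U))) ≫
          𝒮'.presheaf.map (homOfLE hle).op).hom.toAlgebra
      haveI : IsScalarTower Γ(Y, U) Γ(Y', U') (𝒮'.presheaf.obj (op U')) := IsScalarTower.of_algebraMap_eq fun _ => rfl
      haveI : IsScalarTower Γ(Y, U) (𝒮.presheaf.obj (op U)) (𝒮'.presheaf.obj (op U')) :=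
        IsScalarTower.of_algebraMap_eq fun r => ConcreteCategory.congr_hom (hpo U hU U' hU' hle).w r
      haveI hP0 : Algebra.IsPushout Γ(Y, U) Γ(Y', U') (𝒮.presheaf.obj (op U)) (𝒮'.presheaf.obj (op U')) :=
        CommRingCat.isPushout_iff_isPushout.1 (hpo U hU U' hU' hle)
      exact isBC_congr (GrTwist.comap Φ hΦ n) _
        ((RelProj.emb p chart U hU).preimage_image_eq U₁)
        ((RelProj.emb p' chart' U' hU').preimage_image_eq V₁)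
        (isBC_comap_basicOpen Φ hΦ (IsScalarTower.toAlgHom Γ(Y, U) (𝒮.presheaf.obj (op U))
            (𝒮'.presheaf.obj (op U'))).toLinearMap
          (fun a => (congr($(hφ U hU U' hU' hle) a)).symm) (fun r => 𝒮.str_mem U hU r)
          (fun r => 𝒮'.str_mem U' hU' r) hP0.out hh hd n)
  exact ⟨@asIso _ _ _ _ _ key⟩

end Groth.Agent.PullBC11
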