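import Groth.Agent.Lib.PullBC11.Crit
import Groth.Agent.Lib.GrMod11.Comap
import Groth.Agent.Lib.GrMod11.Gamma
import Groth.Agent.Lib.GrMod11.QCoh

/-!
Sections of `M(n)~` over `D₊(f)`, `f` of degree one, and their behaviour under base change of `M` along a
homomorphism of graded rings.
-/

set_option autoImplicit false
set_option linter.style.haveILetI false

universe u

open CategoryTheory Limits AlgebraicGeometry TopologicalSpace Opposite TensorProduct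
open scoped HomogeneousIdeal

namespace Groth.Agent.PullBC11

open Groth.Agent.GrMod11

section single

variable {A σ : Type u} [CommRing A] [SetLike σ A] [AddSubgroupClass σ A] (𝒜 : ℕ → σ) [GradedRing 𝒜]
  {f : A} (hf : f ∈ 𝒜 1)

/-- `a ↦ ∑ a_e / f ^ e`, into the functions on `D₊(f)`. -/
noncomputable def chi : A →+* Γ(Proj 𝒜, Proj.basicOpen 𝒜 f) :=
  (Polynomial.evalRingHom (1 : Γ(Proj 𝒜, Proj.basicOpen 𝒜 f))).comp (chiHom 𝒜 hf)

theorem chi_of_mem {e : ℕ} {a : A} (ha : a ∈ 𝒜 e) : chi 𝒜 hf a = fr 𝒜 hf e ⟨a, ha⟩ := by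
  rw [chi, RingHom.comp_apply, chiHom_of_mem 𝒜 hf ha, Polynomial.coe_evalRingHom, Polynomial.eval_monomial,
    one_pow, mul_one]

theorem chi_self : chi 𝒜 hf f = 1 := by
  rw [chi_of_mem 𝒜 hf hf]
  refine GrTw11.sectionO_ext fun x hx => ?_
  rw [valO_fr, GrTw11.valO_one]
  simp only [pow_one]
  exact Localization.mk_self (⟨f, hx⟩ : x.asHomogeneousIdeal.toIdeal.primeCompl)

theorem chi_surjective : Function.Surjective (chi 𝒜 hf) := fun r => by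
  obtain ⟨z, rfl⟩ := ((ConcreteCategory.isIso_iff_bijective (Proj.basicOpenIsoAway 𝒜 f hf one_pos).hom).1
    inferInstance).2 r
  obtain ⟨j, b, hb, rfl⟩ := HomogeneousLocalization.Away.mk_surjective 𝒜 hf z
  have hb' : b ∈ 𝒜 j := by simpa using hb
  exact ⟨b, by rw [chi_of_mem 𝒜 hf hb', Proj.basicOpenIsoAway_hom]; rfl⟩

include hf in
theorem pow_mem_one (k : ℕ) : f ^ k ∈ 𝒜 k := by simpa using GrTw11.pow_mem_smul 𝒜 hf k

variable {M τ : Type u} [AddCommGroup M] [Module A M] [SetLike τ M] [AddSubgroupClass τ M] (ℳ : ℕ → τ)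
  [SetLike.GradedSMul 𝒜 ℳ] [DirectSum.Decomposition ℳ] (n : ℤ)

/-- A homogeneous element as a section, divided by the power of `f` making the degree `n`. -/
noncomputable def sec₁ (i : ℕ) (x : ℳ i) : Γ(_root_.GrMod.tilde 𝒜 ℳ n, Proj.basicOpen 𝒜 f) :=
  frac 𝒜 (n := n) _ (smul_mem_graded 𝒜 (pow_mem_one 𝒜 hf (n - i).toNat) x.2)
    (pow_mem_one 𝒜 hf ((i : ℤ) - n).toNat) (Or.inl (by push_cast; omega))
    (fun _ hx => GrTw11.pow_notMem 𝒜 hx _)

theorem val_sec₁ (i : ℕ) (x : ℳ i) (y : ProjectiveSpectrum 𝒜) (hy : y ∈ Proj.basicOpen 𝒜 f) :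
    GrMod11.val (n := n) (ℳ := ℳ) (sec₁ 𝒜 hf ℳ n i x) y hy =
      mkx 𝒜 y (f ^ (n - i).toNat • (x : M)) (f ^ ((i : ℤ) - n).toNat) (GrTw11.pow_notMem 𝒜 hy _) := rfl

/-- The degree-normalising map to sections. -/
noncomputable def secMap : M →+ Γ(_root_.GrMod.tilde 𝒜 ℳ n, Proj.basicOpen 𝒜 f) :=
  (DirectSum.toAddMonoid fun i => AddMonoidHom.mk' (sec₁ 𝒜 hf ℳ n i) fun x y => by
    refine GrMod11.sec_ext (n := n) (ℳ := ℳ) fun z hz => ?_
    show mkx 𝒜 z _ _ _ = mkx 𝒜 z _ _ _ + mkx 𝒜 z _ _ _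
    rw [AddMemClass.coe_add, smul_add, LocalizedModule.mk_add_mk, mkx, LocalizedModule.mk_eq]
    exact ⟨1, by simp [smul_add, smul_smul]⟩).comp (DirectSum.decomposeAddEquiv ℳ).toAddMonoidHom

theorem secMap_of_mem {i : ℕ} {x : M} (hx : x ∈ ℳ i) : secMap 𝒜 hf ℳ n x = sec₁ 𝒜 hf ℳ n i ⟨x, hx⟩ := by
  rw [secMap, AddMonoidHom.comp_apply,
    show (DirectSum.decomposeAddEquiv ℳ).toAddMonoidHom x = DirectSum.decompose ℳ x from rfl,
    DirectSum.decompose_of_mem ℳ hx, DirectSum.toAddMonoid_of]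
  rfl

theorem secMap_smul (a : A) (x : M) : secMap 𝒜 hf ℳ n (a • x) = chi 𝒜 hf a • secMap 𝒜 hf ℳ n x := by
  induction a using DirectSum.Decomposition.inductionOn 𝒜 with
  | zero => rw [zero_smul, map_zero, map_zero, zero_smul]
  | add a b ha hb => rw [add_smul, map_add, ha, hb, map_add, add_smul]
  | @homogeneous p a =>
    induction x using DirectSum.Decomposition.inductionOn ℳ with
    | zero => rw [smul_zero, map_zero, smul_zero]
    | add x y hx hy => rw [smul_add, map_add, hx, hy, map_add, smul_add]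
    | @homogeneous i x =>
      rw [chi_of_mem 𝒜 hf a.2, secMap_of_mem 𝒜 hf ℳ n x.2,
        secMap_of_mem 𝒜 hf ℳ n (smul_mem_graded 𝒜 a.2 x.2)]
      refine GrMod11.sec_ext (n := n) (ℳ := ℳ) fun y hy => ?_
      rw [GrMod11.val_smul, valO_fr, val_sec₁, val_sec₁,
        mk_smul_mkx 𝒜 _ _ _ _ _ _ (fun h => (y.isPrime.mem_or_mem h).elim
          (GrTw11.pow_notMem 𝒜 hy p) (GrTw11.pow_notMem 𝒜 hy _)), mkx_eq_iff]
      refine ⟨1, GrTw11.one_notMem_prime 𝒜 y, ?_⟩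
      simp only [one_smul, smul_smul, ← mul_assoc, ← pow_add]
      simp only [one_mul, mul_right_comm _ (a : A), ← pow_add]
      congr 3
      omega

theorem secMap_surjective : Function.Surjective (secMap 𝒜 hf ℳ n) := fun s => by
  obtain ⟨i, k, m, hm, hi, hs⟩ := exists_eq_frac_of_pos 𝒜 ℳ one_pos hf (s : Sec (ℳ := ℳ) n _)
  refine ⟨m, GrMod11.sec_ext (n := n) (ℳ := ℳ) fun x hx => ?_⟩
  rw [secMap_of_mem 𝒜 hf ℳ n hm, val_sec₁]
  refine Eq.trans ?_ (hs x hx).symm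
  rw [mkx_eq_iff]
  refine ⟨1, GrTw11.one_notMem_prime 𝒜 x, ?_⟩
  simp only [one_smul, smul_smul, ← pow_add]
  congr 3
  simp only [Nat.cast_one, mul_one] at hi
  omega

theorem exists_pow_smul_eq_zero_of_secMap {i : ℕ} {x : M} (hx : x ∈ ℳ i) (h : secMap 𝒜 hf ℳ n x = 0) :
    ∃ N : ℕ, f ^ N • x = 0 := by
  rw [secMap_of_mem 𝒜 hf ℳ n hx] at h
  obtain ⟨N, hN⟩ := exists_pow_smul_eq_zero_of_mk 𝒜 ℳ one_pos hf
    (smul_mem_graded 𝒜 (pow_mem_one 𝒜 hf (n - i).toNat) hx) fun y hy =>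
      ⟨f ^ ((i : ℤ) - n).toNat, GrTw11.pow_notMem 𝒜 hy _, by
        rw [← val_sec₁ 𝒜 hf ℳ n i ⟨x, hx⟩ y hy, h]; rfl⟩
  exact ⟨N + (n - i).toNat, by rw [pow_add, mul_smul, hN]⟩

end single

variable {A σ : Type u} [CommRing A] [SetLike σ A] [AddSubgroupClass σ A] {𝒜 : ℕ → σ} [GradedRing 𝒜]
  {B σ' : Type u} [CommRing B] [SetLike σ' B] [AddSubgroupClass σ' B] {ℬ : ℕ → σ'} [GradedRing ℬ]
  (ψ : 𝒜 →+*ᵍ ℬ) (hψ : ℬ₊ ≤ (𝒜₊).map ψ) {f : A} (hf : f ∈ 𝒜 1)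

theorem hle_one : Proj.basicOpen ℬ (ψ f) ≤ Proj.map ψ hψ ⁻¹ᵁ Proj.basicOpen 𝒜 f :=
  (Proj.map_preimage_basicOpen ψ hψ f).ge

include hf in
theorem chi_comp (a : A) :
    (Proj.map ψ hψ).appLE (Proj.basicOpen 𝒜 f) (Proj.basicOpen ℬ (ψ f)) (hle_one ψ hψ) (chi 𝒜 hf a) =
      chi ℬ (ψ.map_mem hf) (ψ a) := by
  induction a using DirectSum.Decomposition.inductionOn 𝒜 with
  | zero => simp
  | add a b ha hb => rw [map_add, map_add, map_add, map_add, ha, hb]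
  | @homogeneous e a =>
    refine ((congrArg _ (chi_of_mem 𝒜 hf a.2)).trans ?_).trans (chi_of_mem ℬ (ψ.map_mem hf) (ψ.map_mem a.2)).symm
    refine GrTw11.sectionO_ext fun y hy => ?_
    rw [valO_fr]
    exact ((congrArg (GrTwist.locMap ψ hψ y) (valO_fr 𝒜 hf e a _ (hle_one ψ hψ hy))).symm.trans
      (HomogeneousLocalization.val_localRingHom _).symm).symm.trans
        ((GrTwist.locMap_mk ψ hψ y _ _).trans (by simp only [map_pow]; rfl))

variable {M τ : Type u} [AddCommGroup M] [Module A M] [SetLike τ M] [AddSubgroupClass τ M] {ℳ : ℕ → τ}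
  [SetLike.GradedSMul 𝒜 ℳ] [DirectSum.Decomposition ℳ]
  {N τ' : Type u} [AddCommGroup N] [Module B N] [SetLike τ' N] [AddSubgroupClass τ' N] {𝒩 : ℕ → τ'}
  [SetLike.GradedSMul ℬ 𝒩] [DirectSum.Decomposition 𝒩]
  (v : M →ₛₗ[ψ.toRingHom] N) (hv : ∀ (i : ℕ) (m : M), m ∈ ℳ i → v m ∈ 𝒩 i) (n : ℤ)

include hf in
theorem comap_secMap (m : M) :
    M1.mres (_root_.GrMod.tilde ℬ 𝒩 n) (hle_one ψ hψ)
      ((_root_.GrMod.comap ψ hψ v hv n).app (Proj.basicOpen 𝒜 f) (secMap 𝒜 hf ℳ n m)) =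
        secMap ℬ (ψ.map_mem hf) 𝒩 n (v m) := by
  induction m using DirectSum.Decomposition.inductionOn ℳ with
  | zero =>
    rw [map_zero (secMap 𝒜 hf ℳ n), map_zero v, map_zero (secMap ℬ _ 𝒩 n)]
    exact (congrArg _ (map_zero _)).trans (map_zero _)
  | add a b ha hb => rw [map_add (secMap 𝒜 hf ℳ n), map_add v, map_add (secMap ℬ _ 𝒩 n), ← ha, ← hb,
      map_add ((_root_.GrMod.comap ψ hψ v hv n).app _).hom]; exact map_add _ _ _
  | @homogeneous i x =>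
    rw [secMap_of_mem 𝒜 hf ℳ n x.2, secMap_of_mem ℬ (ψ.map_mem hf) 𝒩 n (hv i x x.2)]
    refine GrMod11.sec_ext (n := n) (ℳ := 𝒩) fun y hy => ?_
    show _root_.GrMod.locModMap ψ hψ v y (mkx 𝒜 _ (f ^ (n - i).toNat • (x : M)) _ _) = _
    rw [locModMap_mkx, val_sec₁]
    simp only [LinearMap.map_smulₛₗ, map_pow]
    rfl

include hf in
/-- Over `D₊(f)` the sections of `N(n)~` are the base change of those of `M(n)~`. -/
theorem isBC_comap_degOne
    (hbc : ∀ (Q : Type u) [AddCommGroup Q] [Module B Q] (w : M →ₛₗ[ψ.toRingHom] Q),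
      ∃! g : N →ₗ[B] Q, ∀ m : M, g (v m) = w m) :
    IsBC (_root_.GrMod.comap ψ hψ v hv n) (hle_one ψ hψ (f := f)) := by
  classical
  let U := Proj.basicOpen 𝒜 f
  let V := Proj.basicOpen ℬ (ψ f)
  letI := ((Proj.map ψ hψ).appLE U V (hle_one ψ hψ)).hom.toAlgebra
  letI := baseModule (g := Proj.map ψ hψ) (_root_.GrMod.tilde ℬ 𝒩 n) (hle_one ψ hψ (f := f))
  haveI : IsScalarTower Γ(Proj 𝒜, U) Γ(Proj ℬ, V) Γ(_root_.GrMod.tilde ℬ 𝒩 n, V) :=
    IsScalarTower.of_algebraMap_smul fun _ _ => rfl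
  set Θ := (sect (_root_.GrMod.comap ψ hψ v hv n) (hle_one ψ hψ (f := f))).liftBaseChange Γ(Proj ℬ, V) with hΘ
  letI mT : Module B (Γ(Proj ℬ, V) ⊗[Γ(Proj 𝒜, U)] Γ(_root_.GrMod.tilde 𝒜 ℳ n, U)) :=
    Module.compHom _ (chi ℬ (ψ.map_mem hf))
  letI mN : Module B Γ(_root_.GrMod.tilde ℬ 𝒩 n, V) := Module.compHom _ (chi ℬ (ψ.map_mem hf))
  -- the map into the tensor product
  let w : M →ₛₗ[ψ.toRingHom] (Γ(Proj ℬ, V) ⊗[Γ(Proj 𝒜, U)] Γ(_root_.GrMod.tilde 𝒜 ℳ n, U)) :=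
    { toFun := fun m => 1 ⊗ₜ secMap 𝒜 hf ℳ n m
      map_add' := fun x y => by rw [map_add, tmul_add]
      map_smul' := fun a m => by
        show _ = chi ℬ (ψ.map_mem hf) (ψ a) • ((1 : Γ(Proj ℬ, V)) ⊗ₜ[Γ(Proj 𝒜, U)] secMap 𝒜 hf ℳ n m)
        rw [secMap_smul, TensorProduct.tmul_smul, ← algebraMap_smul Γ(Proj ℬ, V) (chi 𝒜 hf a), ← chi_comp ψ hψ hf]
        rfl }
  obtain ⟨g, hg, -⟩ := hbc _ w
  let WB : N →ₗ[B] Γ(_root_.GrMod.tilde ℬ 𝒩 n, V) :=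
    { toFun := secMap ℬ (ψ.map_mem hf) 𝒩 n
      map_add' := map_add _
      map_smul' := fun b y => secMap_smul ℬ (ψ.map_mem hf) 𝒩 n b y }
  let Θg : N →ₗ[B] Γ(_root_.GrMod.tilde ℬ 𝒩 n, V) :=
    { toFun := fun y => Θ (g y)
      map_add' := fun x y => by rw [map_add, map_add]
      map_smul' := fun b y => by
        rw [map_smul g]
        exact map_smul Θ (chi ℬ (ψ.map_mem hf) b) (g y) }
  have hcomp : Θg = WB := by
    refine (hbc _ (WB.comp v)).unique (fun m => ?_) fun m => rfl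
    show Θ (g (v m)) = secMap ℬ _ 𝒩 n (v m)
    rw [hg m, hΘ, ← comap_secMap ψ hψ hf v hv n m]
    exact LinearMap.liftBaseChange_one_tmul _ _ _
  have hone : ∀ (j : ℕ) (z : Γ(Proj ℬ, V) ⊗[Γ(Proj 𝒜, U)] Γ(_root_.GrMod.tilde 𝒜 ℳ n, U)),
      (ψ f ^ j : B) • z = z := fun j z => by
    show chi ℬ (ψ.map_mem hf) (ψ f ^ j) • z = z
    rw [map_pow]
    erw [chi_self ℬ (ψ.map_mem hf)]
    rw [one_pow, one_smul]
  have hadd : ∀ {i i' : ℕ} {y y' : N}, y ∈ 𝒩 i → y' ∈ 𝒩 i' →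
      ∃ (k : ℕ) (t : N), t ∈ 𝒩 k ∧ g t = g y + g y' := fun {i i' y y'} hy hy' => by
    refine ⟨i + i', ψ f ^ i' • y + ψ f ^ i • y', add_mem ?_ ?_, ?_⟩
    · exact Eq.mp (congrArg (_ ∈ 𝒩 ·) (add_comm _ _)) (smul_mem_graded ℬ (pow_mem_one ℬ (ψ.map_mem hf) i') hy)
    · exact smul_mem_graded ℬ (pow_mem_one ℬ (ψ.map_mem hf) i) hy'
    · rw [map_add, map_smul, map_smul, hone, hone]
  -- every tensor comes from a homogeneous element
  have key : ∀ z, ∃ (i : ℕ) (y : N), y ∈ 𝒩 i ∧ g y = z := by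
    intro z
    induction z using TensorProduct.induction_on with
    | zero => exact ⟨0, 0, zero_mem _, map_zero g⟩
    | tmul s μ =>
      obtain ⟨b, rfl⟩ := chi_surjective ℬ (ψ.map_mem hf) s
      obtain ⟨m, rfl⟩ := secMap_surjective 𝒜 hf ℳ n μ
      induction b using DirectSum.Decomposition.inductionOn ℬ with
      | zero => exact ⟨0, 0, zero_mem _, by rw [map_zero, map_zero (chi ℬ _), zero_tmul]⟩
      | add b b' hb hb' =>
        obtain ⟨i, y, hy, hgy⟩ := hb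
        obtain ⟨i', y', hy', hgy'⟩ := hb'
        obtain ⟨k, t, ht, hgt⟩ := hadd hy hy'
        exact ⟨k, t, ht, by rw [hgt, hgy, hgy', map_add (chi ℬ _), add_tmul]⟩
      | @homogeneous p b =>
        induction m using DirectSum.Decomposition.inductionOn ℳ with
        | zero => exact ⟨0, 0, zero_mem _, by rw [map_zero, map_zero (secMap 𝒜 hf ℳ n), tmul_zero]⟩
        | add m m' hm hm' =>
          obtain ⟨i, y, hy, hgy⟩ := hm
          obtain ⟨i', y', hy', hgy'⟩ := hm'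
          obtain ⟨k, t, ht, hgt⟩ := hadd hy hy'
          exact ⟨k, t, ht, by rw [hgt, hgy, hgy', map_add (secMap 𝒜 hf ℳ n), tmul_add]⟩
        | @homogeneous i x =>
          refine ⟨p + i, (b : B) • v x, smul_mem_graded ℬ b.2 (hv i x x.2), ?_⟩
          rw [map_smul, hg]
          show chi ℬ (ψ.map_mem hf) b • ((1 : Γ(Proj ℬ, V)) ⊗ₜ[Γ(Proj 𝒜, U)] secMap 𝒜 hf ℳ n x) = _
          rw [TensorProduct.smul_tmul', smul_eq_mul, mul_one]
    | add z z' hz hz' =>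
      obtain ⟨i, y, hy, hgy⟩ := hz
      obtain ⟨i', y', hy', hgy'⟩ := hz'
      obtain ⟨k, t, ht, hgt⟩ := hadd hy hy'
      exact ⟨k, t, ht, by rw [hgt, hgy, hgy']⟩
  refine IsBaseChange.of_equiv (LinearEquiv.ofBijective Θ ⟨(injective_iff_map_eq_zero _).2 fun z hz => ?_,
    fun t => ?_⟩) fun s => LinearMap.liftBaseChange_one_tmul _ _ _
  · obtain ⟨i, y, hy, rfl⟩ := key z
    have h0 : secMap ℬ (ψ.map_mem hf) 𝒩 n y = 0 := (LinearMap.congr_fun hcomp y).symm.trans hz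
    obtain ⟨K, hK⟩ := exists_pow_smul_eq_zero_of_secMap ℬ (ψ.map_mem hf) 𝒩 n hy h0
    exact (hone K (g y)).symm.trans ((map_smul g (ψ f ^ K) y).symm.trans
      ((congrArg g hK).trans (map_zero g)))
  · obtain ⟨y, rfl⟩ := secMap_surjective ℬ (ψ.map_mem hf) 𝒩 n t
    exact ⟨g y, LinearMap.congr_fun hcomp y⟩

end Groth.Agent.PullBC11
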